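import Mathlib.GroupTheory.Index
import Mathlib.GroupTheory.SpecificGroups.Alternating
import Mathlib.Tactic

/-!
# The coset bound for Moore's generators of alternating groups

If `x, s 1, …, s 4` satisfy the relations of the generators `(1 2 3)`, `(1 2)(k+2 k+3)` of the
alternating group of degree 7, then each `H n = ⟨x, s 1, …, s n⟩` is a union of `n + 3` cosets of
`H (n - 1)`.
-/

set_option autoImplicit false

namespace CfsgLib.Classification.AltSevenOrder

variable {G : Type*} [Group G]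

/-- Elements satisfying the relations of Moore's generators of `A₇`. -/
structure MooreSystem (G : Type*) [Group G] where
  /-- the element of order three -/
  x : G
  /-- the involutions -/
  s : ℕ → G
  x_cube : x ^ 3 = 1
  sq : ∀ m, 1 ≤ m → m ≤ 4 → s m * s m = 1
  inv : ∀ m, 2 ≤ m → m ≤ 4 → s m * x = x⁻¹ * s m
  base : (x * s 1) ^ 3 = 1
  braid : ∀ m, 1 ≤ m → m < 4 → s m * s (m + 1) * s m = s (m + 1) * s m * s (m + 1)
  comm : ∀ m k, 1 ≤ m → m + 2 ≤ k → k ≤ 4 → s m * s k = s k * s m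

namespace MooreSystem

variable (S : MooreSystem G)

/-- `⟨x, s 1, …, s n⟩`. -/
def H (n : ℕ) : Subgroup G :=
  Subgroup.closure (insert S.x (S.s '' {m | 1 ≤ m ∧ m ≤ n}))

theorem x_mem (n : ℕ) : S.x ∈ S.H n := Subgroup.subset_closure (Set.mem_insert _ _)

theorem s_mem {m n : ℕ} (h1 : 1 ≤ m) (h2 : m ≤ n) : S.s m ∈ S.H n :=
  Subgroup.subset_closure (Set.mem_insert_of_mem _ ⟨m, ⟨h1, h2⟩, rfl⟩)

/-- Coset representatives `1, s n, s n * s (n-1), …, s n * ⋯ * s 1`. -/
def w (n : ℕ) : ℕ → G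
  | 0 => 1
  | j + 1 => w n j * S.s (n - j)

/-- All representatives: the `w n j` and `w n n * x ^ i`, `i = 1, 2`. -/
def rep (n k : ℕ) : G := if k ≤ n then S.w n k else S.w n n * S.x ^ (k - n)

theorem s_comm {m k : ℕ} (hm : 1 ≤ m) (hk : 1 ≤ k) (hm4 : m ≤ 4) (hk4 : k ≤ 4)
    (h : m + 2 ≤ k ∨ k + 2 ≤ m) : S.s m * S.s k = S.s k * S.s m := by
  rcases h with h | h
  · exact S.comm m k hm h hk4
  · exact (S.comm k m hk h hm4).symm

/-- Generators below the descending word pass through it. -/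
theorem w_mul_s_low {n m : ℕ} (hn : n ≤ 4) (hm : 1 ≤ m) :
    ∀ {j : ℕ}, m + j < n → S.w n j * S.s m = S.s m * S.w n j
  | 0, _ => by simp [w]
  | j + 1, h => by
    rw [w, mul_assoc, S.s_comm (m := n - j) (k := m) (by omega) hm (by omega) (by omega)
      (Or.inr (by omega)), ← mul_assoc, w_mul_s_low hn hm (by omega), mul_assoc]

/-- Generators inside the descending word are shifted down by it. -/
theorem w_mul_s_high {n m : ℕ} (hn : n ≤ 4) :
    ∀ {j : ℕ}, j ≤ n → n + 2 ≤ m + j → m ≤ n → S.w n j * S.s m = S.s (m - 1) * S.w n j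
  | 0, _, h, h' => by omega
  | j + 1, hj, h, h' => by
    rcases Nat.lt_or_ge (n + 2) (m + (j + 1)) with hlt | hge
    · rw [w, mul_assoc, S.s_comm (m := n - j) (k := m) (by omega) (by omega) (by omega) (by omega)
        (Or.inl (by omega)), ← mul_assoc, w_mul_s_high hn (by omega) (by omega) h', mul_assoc]
    · obtain ⟨i, rfl⟩ : ∃ i, j = i + 1 := ⟨j - 1, by omega⟩
      have hm : m = n - i := by omega
      have hm1 : n - (i + 1) = m - 1 := by omega
      rw [w, w, hm1, ← hm]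
      have hb := S.braid (m - 1) (by omega) (by omega)
      rw [Nat.sub_add_cancel (show 1 ≤ m by omega)] at hb
      calc S.w n i * S.s m * S.s (m - 1) * S.s m
          = S.w n i * (S.s m * S.s (m - 1) * S.s m) := by group
        _ = S.w n i * S.s (m - 1) * (S.s m * S.s (m - 1)) := by rw [← hb]; group
        _ = S.s (m - 1) * (S.w n i * S.s m * S.s (m - 1)) := by
          rw [S.w_mul_s_low hn (by omega) (by omega)]; group

/-- `x` passes through the proper descending words. -/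
theorem w_mul_x {n : ℕ} (hn : n ≤ 4) : ∀ {j : ℕ}, j < n →
    (∃ i : ℕ, S.w n j * S.x = S.x ^ i * S.w n j) ∧ ∃ i : ℕ, S.w n j * S.x⁻¹ = S.x ^ i * S.w n j
  | 0, _ => by
    have hx : S.x⁻¹ = S.x ^ 2 := inv_eq_of_mul_eq_one_left (by rw [← pow_succ]; exact S.x_cube)
    exact ⟨⟨1, by simp [w]⟩, ⟨2, by simp [w, hx]⟩⟩
  | j + 1, h => by
    obtain ⟨⟨a, ha⟩, ⟨b, hb⟩⟩ := w_mul_x hn (show j < n by omega)
    have hs := S.inv (n - j) (by omega) (by omega)
    refine ⟨⟨b, ?_⟩, ⟨a, ?_⟩⟩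
    · rw [w, mul_assoc, hs, ← mul_assoc, hb, mul_assoc]
    · have hs' : S.s (n - j) * S.x⁻¹ = S.x * S.s (n - j) := by
        rw [mul_inv_eq_iff_eq_mul, mul_assoc, hs, mul_inv_cancel_left]
      rw [w, mul_assoc, hs', ← mul_assoc, ha, mul_assoc]

theorem x_inv : S.x⁻¹ = S.x ^ 2 := inv_eq_of_mul_eq_one_left (by rw [← pow_succ]; exact S.x_cube)

theorem pow_x_mem (n i : ℕ) : S.x ^ i ∈ S.H n := Subgroup.pow_mem _ (S.x_mem n) i

/-- Right multiplication by a generator permutes the cosets. -/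
theorem rep_mul {n : ℕ} (hn1 : 1 ≤ n) (hn : n ≤ 4) {k : ℕ} (hk : k < n + 3) {g : G}
    (hg : g ∈ insert S.x (S.s '' {m | 1 ≤ m ∧ m ≤ n})) :
    ∃ h ∈ S.H (n - 1), ∃ k' < n + 3, S.rep n k * g = h * S.rep n k' := by
  have hw : ∀ j ≤ n, S.rep n j = S.w n j := fun j hj => by simp [rep, hj]
  have hlast : S.w n n = S.w n (n - 1) * S.s 1 := by
    obtain ⟨p, rfl⟩ : ∃ p, n = p + 1 := ⟨n - 1, by omega⟩
    rw [w, Nat.add_sub_cancel, Nat.add_sub_cancel_left]
  have h1 : S.rep n (n + 1) = S.w n n * S.x := by simp [rep]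
  have h2 : S.rep n (n + 2) = S.w n n * S.x ^ 2 := by simp [rep]
  rcases hg with rfl | ⟨m, ⟨hm1, hmn⟩, rfl⟩
  · rcases Nat.lt_or_ge k n with hlt | hge
    · obtain ⟨⟨i, hi⟩, -⟩ := S.w_mul_x hn hlt
      exact ⟨_, S.pow_x_mem _ i, k, hk, by rw [hw k hlt.le, hi]⟩
    · obtain rfl | rfl | rfl : k = n ∨ k = n + 1 ∨ k = n + 2 := by omega
      · exact ⟨1, one_mem _, k + 1, by omega, by rw [hw k le_rfl, h1, one_mul]⟩
      · exact ⟨1, one_mem _, n + 2, by omega, by rw [h1, h2, one_mul, mul_assoc, ← pow_two]⟩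
      · exact ⟨1, one_mem _, n, by omega, by
          rw [h2, hw n le_rfl, one_mul, mul_assoc, ← pow_succ, S.x_cube, mul_one]⟩
  have hsq := S.sq m hm1 (by omega)
  rcases Nat.lt_or_ge n k with hgt | hle
  · -- the two representatives ending in a power of `x`
    rcases Nat.lt_or_ge 1 m with hm | hm
    · have hhigh := S.w_mul_s_high hn (le_refl n) (show n + 2 ≤ m + n by omega) hmn
      have hinv := S.inv m hm (by omega)
      have hxs : S.x * S.s m = S.s m * S.x⁻¹ := by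
        rw [eq_mul_inv_iff_mul_eq, mul_assoc, hinv, mul_inv_cancel_left]
      obtain rfl | rfl : k = n + 1 ∨ k = n + 2 := by omega
      · exact ⟨_, S.s_mem (show 1 ≤ m - 1 by omega) (by omega), n + 2, by omega, by
          rw [h1, h2, mul_assoc, hxs, ← mul_assoc, hhigh, S.x_inv, mul_assoc]⟩
      · refine ⟨_, S.s_mem (show 1 ≤ m - 1 by omega) (by omega), n + 1, by omega, ?_⟩
        rw [h1, h2, ← S.x_inv, mul_assoc, show S.x⁻¹ * S.s m = S.s m * S.x from hinv.symm,
          ← mul_assoc, hhigh, mul_assoc]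
    · obtain rfl : m = 1 := by omega
      have hbase : S.x * S.s 1 = S.s 1 * S.x⁻¹ * S.s 1 * S.x⁻¹ := by
        have h := S.base
        rw [pow_succ, pow_two] at h
        have h' := eq_inv_of_mul_eq_one_left h
        rw [mul_inv_rev] at h'
        have hs1 : (S.s 1)⁻¹ = S.s 1 := inv_eq_of_mul_eq_one_left hsq
        rw [hs1] at h'
        -- `h' : x s₁ x s₁ = s₁ x⁻¹`
        calc S.x * S.s 1 = (S.x * S.s 1 * (S.x * S.s 1)) * (S.s 1)⁻¹ * S.x⁻¹ := by group
          _ = _ := by rw [h', hs1]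
      obtain ⟨-, ⟨b, hb⟩⟩ := S.w_mul_x hn (show n - 1 < n by omega)
      have e1 : S.rep n (n + 1) * S.s 1 = S.x ^ b * S.rep n (n + 2) := by
        rw [h1, h2, hlast, mul_assoc, hbase]
        calc S.w n (n - 1) * S.s 1 * (S.s 1 * S.x⁻¹ * S.s 1 * S.x⁻¹)
            = S.w n (n - 1) * (S.s 1 * S.s 1) * S.x⁻¹ * S.s 1 * S.x⁻¹ := by group
          _ = _ := by rw [hsq, mul_one, hb, S.x_inv]; group
      obtain rfl | rfl : k = n + 1 ∨ k = n + 2 := by omega
      · exact ⟨_, S.pow_x_mem _ b, n + 2, by omega, e1⟩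
      · refine ⟨(S.x ^ b)⁻¹, inv_mem (S.pow_x_mem _ b), n + 1, by omega, ?_⟩
        rw [eq_inv_mul_iff_mul_eq, ← mul_assoc, ← e1, mul_assoc, hsq, mul_one]
  rw [hw k hle]
  rcases Nat.lt_trichotomy (m + k) n with hlt | heq | hgt
  · exact ⟨_, S.s_mem hm1 (show m ≤ n - 1 by omega), k, hk, by rw [hw k hle, S.w_mul_s_low hn hm1 hlt]⟩
  · refine ⟨1, one_mem _, k + 1, by omega, ?_⟩
    rw [hw (k + 1) (by omega), one_mul, w, show n - k = m by omega]
  · rcases Nat.lt_or_ge (n + 1) (m + k) with hgt' | hle'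
    · exact ⟨_, S.s_mem (show 1 ≤ m - 1 by omega) (by omega), k, hk, by
        rw [hw k hle, S.w_mul_s_high hn hle (by omega) hmn]⟩
    · obtain ⟨p, rfl⟩ : ∃ p, k = p + 1 := ⟨k - 1, by omega⟩
      refine ⟨1, one_mem _, p, by omega, ?_⟩
      rw [hw p (by omega), one_mul, w, show n - p = m by omega, mul_assoc, hsq, mul_one]

/-- `|H n| ≤ (n + 3) |H (n - 1)|`. -/
theorem card_H_le [Finite G] {n : ℕ} (hn1 : 1 ≤ n) (hn : n ≤ 4) :
    Nat.card (S.H n) ≤ Nat.card (S.H (n - 1)) * (n + 3) := by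
  have key : ∀ g ∈ S.H n, ∃ h ∈ S.H (n - 1), ∃ k < n + 3, g = h * S.rep n k := by
    intro g hg
    induction hg using Subgroup.closure_induction_right with
    | one => exact ⟨1, one_mem _, 0, by omega, by simp [rep, w]⟩
    | mul_right a _ b hb ih =>
      obtain ⟨h, hh, k, hk, rfl⟩ := ih
      obtain ⟨h', hh', k', hk', e⟩ := S.rep_mul hn1 hn hk hb
      exact ⟨h * h', mul_mem hh hh', k', hk', by rw [mul_assoc, e, mul_assoc]⟩
    | mul_inv_cancel a _ b hb ih =>
      obtain ⟨h, hh, k, hk, rfl⟩ := ih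
      rcases hb with rfl | ⟨m, ⟨hm1, hmn⟩, rfl⟩
      · obtain ⟨h', hh', k', hk', e⟩ := S.rep_mul hn1 hn hk (Set.mem_insert S.x _)
        obtain ⟨h'', hh'', k'', hk'', e'⟩ := S.rep_mul hn1 hn hk' (Set.mem_insert S.x _)
        exact ⟨h * (h' * h''), mul_mem hh (mul_mem hh' hh''), k'', hk'', by
          rw [S.x_inv, pow_two, mul_assoc, ← mul_assoc (S.rep n k), e, mul_assoc h', e']; group⟩
      · obtain ⟨h', hh', k', hk', e⟩ :=
          S.rep_mul hn1 hn hk (Set.mem_insert_of_mem _ ⟨m, ⟨hm1, hmn⟩, rfl⟩)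
        exact ⟨h * h', mul_mem hh hh', k', hk', by
          rw [inv_eq_of_mul_eq_one_left (S.sq m hm1 (by omega)), mul_assoc, e, mul_assoc]⟩
  choose f hf g' hg' he using key
  have := Nat.card_le_card_of_injective
    (fun a : S.H n => ((⟨f a a.2, hf a a.2⟩ : S.H (n - 1)), (⟨g' a a.2, hg' a a.2⟩ : Fin (n + 3))))
    (fun a b hab => by
      simp only [Prod.mk.injEq, Subtype.mk.injEq, Fin.mk.injEq] at hab
      exact Subtype.ext ((he a a.2).trans (by rw [hab.1, hab.2, ← he b b.2])))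
  simpa [Nat.card_prod] using this

theorem card_H_zero : Nat.card (S.H 0) ≤ 3 := by
  have h : S.H 0 = Subgroup.zpowers S.x := by
    rw [H, Subgroup.zpowers_eq_closure]
    congr 1
    ext a
    simp only [Set.mem_insert_iff, Set.mem_image, Set.mem_ofPred_eq, Set.mem_singleton_iff]
    exact ⟨fun h => h.resolve_right fun ⟨m, hm, _⟩ => by omega, Or.inl⟩
  rw [h, Nat.card_zpowers]
  exact Nat.le_of_dvd (by norm_num) (orderOf_dvd_of_pow_eq_one S.x_cube)

/-- A group of order `2520` generated by a Moore system has a subgroup of index seven. -/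
theorem exists_index_seven [Finite G] (hG : Nat.card G = 2520) (htop : S.H 4 = ⊤) :
    ∃ H : Subgroup G, H.index = 7 := by
  have h0 := S.card_H_zero
  have h1 := S.card_H_le (n := 1) le_rfl (by norm_num)
  have h2 := S.card_H_le (n := 2) (by norm_num) (by norm_num)
  have h3 := S.card_H_le (n := 3) (by norm_num) (by norm_num)
  have h4 := S.card_H_le (n := 4) (by norm_num) le_rfl
  rw [htop, Subgroup.card_top, hG] at h4
  norm_num at h1 h2 h3 h4
  refine ⟨S.H 3, ?_⟩
  have hmul := (S.H 3).card_mul_index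
  have e : Nat.card (S.H 3) = 360 := by omega
  rw [e, hG] at hmul
  omega

end MooreSystem

end CfsgLib.Classification.AltSevenOrder
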