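import Cfsg.Agent.Classification.AltSevenOrder.Klein
import Cfsg.Agent.Classification.AltSevenOrder.Moore

/-!
# A subgroup of index seven in a simple group of order 2520

Generators satisfying Moore's relations of the alternating group of degree 7 are found in the
three-local subgroup and a conjugate of it.
-/

set_option autoImplicit false
set_option linter.style.haveILetI false

namespace CfsgLib.Classification.AltSevenOrder

open CfsgLib.Small CfsgLib.Classification.SmallOrders

theorem braid_of_cube {G : Type*} [Group G] {a b : G} (ha : a * a = 1) (hb : b * b = 1)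
    (h : (a * b) ^ 3 = 1) : a * b * a = b * a * b := by
  have ha' : a⁻¹ = a := inv_eq_of_mul_eq_one_left ha
  have hb' : b⁻¹ = b := inv_eq_of_mul_eq_one_left hb
  rw [pow_succ, pow_two] at h
  have h' : a * b * a = (b * a * b)⁻¹ := eq_inv_of_mul_eq_one_left (by rw [← h]; group)
  rw [h', mul_inv_rev, mul_inv_rev, ha', hb', ← mul_assoc]

theorem three_le_card {G : Type*} [Group G] [Finite G] {H : Subgroup G} {a b : G} (ha : a ∈ H)
    (hb : b ∈ H) (ha1 : a ≠ 1) (hb1 : b ≠ 1) (hab : a ≠ b) : 3 ≤ Nat.card H := by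
  classical
  have h : ({1, a, b} : Finset G).card = 3 := Finset.card_eq_three.2
    ⟨1, a, b, ha1.symm, hb1.symm, hab, rfl⟩
  rw [← h, ← Nat.card_eq_finsetCard]
  refine Nat.card_le_card_of_injective (fun z => (⟨z.1, ?_⟩ : H)) fun z z' e => ?_
  · have := z.2
    simp only [Finset.mem_insert, Finset.mem_singleton] at this
    rcases this with e | e | e <;> rw [e]
    exacts [one_mem _, ha, hb]
  · exact Subtype.ext (congrArg (fun w : H => (w : G)) e)

variable {G : Type*} [Group G] [Finite G] [IsSimpleGroup G]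

set_option maxHeartbeats 1200000 in
/-- A simple group of order 2520 has a subgroup of index seven. -/
theorem exists_index_seven (hG : ¬ IsMulCommutative G) (hN : Nat.card G = 2520) :
    ∃ H : Subgroup G, H.index = 7 := by
  classical
  by_contra hex
  have hno : ∀ H : Subgroup G, H.index ≠ 7 := fun H h => hex ⟨H, h⟩
  haveI : Fact (Nat.Prime 3) := ⟨Nat.prime_three⟩
  haveI : Fact (Nat.Prime 2) := ⟨Nat.prime_two⟩
  obtain ⟨D, P, hD, hP, hDP, hPC, hNP, hMc, hCc, hC4, hM4⟩ := exists_local hG hN hno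
  obtain ⟨⟨x, hxD⟩, hx⟩ := exists_prime_orderOf_dvd_card' (G := D) 3 (by rw [hD])
  rw [← Subgroup.orderOf_coe] at hx
  let S : Setup G := ⟨D, P, x, hD, hP, hDP, hPC, hNP, hMc, hCc, hC4, hM4, hx, hxD⟩
  obtain ⟨V, hV⟩ := S.exists_klein
  have hzx : Subgroup.zpowers x = D := S.zpowers_x
  set N := Subgroup.normalizer ((P : Subgroup G) : Set G) with hNdef
  have hPM : (P : Subgroup G) ≤ S.M := hPC.trans S.C_le
  haveI : IsMulCommutative (P : Subgroup G) :=
    IsPGroup.isMulCommutative_of_card_eq_prime_sq (p := 3) (by rw [hP]; norm_num)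
  have hPcomm : ∀ p ∈ (P : Subgroup G), ∀ q ∈ (P : Subgroup G), p * q = q * p := fun p hp q hq =>
    congrArg Subtype.val (mul_comm' (⟨p, hp⟩ : (P : Subgroup G)) ⟨q, hq⟩)
  have hMN : Nat.card (S.M ⊓ N : Subgroup G) = 18 := by
    have h := card_inf_normalizer_mul P hPM
    rw [show Nat.card (Sylow 3 S.M) = 4 from hM4, show Nat.card S.M = 72 from hMc] at h
    have h' : 4 * Nat.card (S.M ⊓ N : Subgroup G) = 72 := h
    omega
  have hCN : Nat.card (S.C ⊓ N : Subgroup G) = 9 := by
    have h := card_inf_normalizer_mul P hPC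
    rw [show Nat.card (Sylow 3 (Subgroup.centralizer (D : Set G))) = 4 from hC4, hCc] at h
    have h' : 4 * Nat.card (S.C ⊓ N : Subgroup G) = 36 := h
    omega
  have hNM : ¬ N ≤ S.M := fun h => by
    rw [inf_eq_right.2 h, hNP] at hMN
    omega
  have hidx2 : ((S.M ⊓ N).subgroupOf N).index = 2 := by
    have h := ((S.M ⊓ N).subgroupOf N).card_mul_index
    rw [Nat.card_congr (Subgroup.subgroupOfEquivOfLe inf_le_right).toEquiv, hMN, hNP] at h
    omega
  have hMNn : ∀ n ∈ N, ∀ m ∈ S.M ⊓ N, n⁻¹ * m * n ∈ S.M ⊓ N := by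
    intro n hn m hm
    have h := (Subgroup.normal_of_index_eq_two hidx2).conj_mem ⟨m, hm.2⟩ hm ⟨n⁻¹, inv_mem hn⟩
    exact Subgroup.mem_inf.2 ⟨by simpa [Subgroup.mem_subgroupOf] using h,
      mul_mem (mul_mem (inv_mem hn) hm.2) hn⟩
  -- an involution of `N(D) ∩ N(P)` inverts `P`
  have hinv : ∀ j ∈ S.M ⊓ N, orderOf j = 2 → j ∉ S.C ∧ ∀ p ∈ (P : Subgroup G), j * p * j⁻¹ = p⁻¹ := by
    intro j hj hjo
    have hjC : j ∉ S.C := fun h => by
      have := Subgroup.orderOf_dvd_natCard (S.C ⊓ N) (show j ∈ S.C ⊓ N from ⟨h, hj.2⟩)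
      rw [hjo, hCN] at this
      omega
    refine ⟨hjC, (conj_eq_or_inv P hP hNP hD hDP hNM hjo hj.2 hj.1).resolve_left fun h => hjC ?_⟩
    exact S.mem_C_iff.2 (mul_inv_eq_iff_eq_mul.1 (h x (hDP hxD)))
  obtain ⟨⟨i, hiMN⟩, hi⟩ :=
    exists_prime_orderOf_dvd_card' (G := (S.M ⊓ N : Subgroup G)) 2 (by rw [hMN]; norm_num)
  rw [← Subgroup.orderOf_coe] at hi
  change orderOf i = 2 at hi
  obtain ⟨hiC, hiP⟩ := hinv i hiMN hi
  have hiM : i ∈ S.M := hiMN.1
  have hii : i * i = 1 := (orderOf_eq_two_iff_sq.1 hi).2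
  have hiinv : i⁻¹ = i := inv_eq_of_mul_eq_one_left hii
  -- the second conjugate of `D` in `P`
  obtain ⟨g, hg, hgM⟩ := SetLike.not_le_iff_exists.1 hNM
  have hg2 : g * g ∈ S.M :=
    (Subgroup.sq_mem_of_index_two hidx2 ⟨g, hg⟩ |> fun h => by
      rw [Subgroup.mem_subgroupOf, pow_two] at h; exact h.1)
  have hgD : g ∉ S.M ⊓ N := fun h => hgM h.1
  set y := g * x * g⁻¹ with hy
  have hyP : y ∈ (P : Subgroup G) := (Subgroup.mem_normalizer_iff.1 hg x).1 (hDP hxD)
  have hx3 : x ^ 3 = 1 := hx ▸ pow_orderOf_eq_one x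
  have hy3 : y ^ 3 = 1 := by rw [hy, conj_pow, hx3]; group
  have hnorm_of_conj : ∀ a : G, a * x * a⁻¹ ∈ D → a ∈ S.M := by
    intro a ha
    have hconj : D.map (MulAut.conj a).toMonoidHom = D := by
      refine Subgroup.eq_of_le_of_card_ge ?_
        (Subgroup.card_map_of_injective (MulAut.conj a).injective).ge
      rw [← hzx, MonoidHom.map_zpowers, Subgroup.zpowers_le]
      exact hzx.ge ha
    rw [Setup.M, Subgroup.mem_normalizer_iff]
    intro p
    constructor
    · exact fun hp => hconj.le ⟨p, hp, rfl⟩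
    · intro hp
      obtain ⟨q, hq, hqe⟩ := hconj.ge hp
      rwa [← (MulAut.conj a).injective (show MulAut.conj a q = MulAut.conj a p from hqe)]
  have hyD : y ∉ D := fun h => hgM (hnorm_of_conj g h)
  have hyC : y ∈ S.C := hPC hyP
  set x' := g⁻¹ * x * g with hx'
  have hx'P : x' ∈ (P : Subgroup G) := by
    have := (Subgroup.mem_normalizer_iff.1 (inv_mem hg) x).1 (hDP hxD)
    rwa [inv_inv] at this
  have hx'3 : x' ^ 3 = 1 := by
    rw [hx', show g⁻¹ * x * g = g⁻¹ * x * (g⁻¹)⁻¹ by group, conj_pow, hx3]; group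
  have hx'D : x' ∉ D := fun h => hgM (by
    have := hnorm_of_conj g⁻¹ (by rw [inv_inv]; exact h)
    simpa using inv_mem this)
  -- conjugates of `x` in `P`
  have hconjP : ∀ a : G, a * x * a⁻¹ ∈ (P : Subgroup G) →
      a ∈ S.M ∨ ∃ d ∈ D, a * x * a⁻¹ = g * d * g⁻¹ := by
    intro a ha
    obtain ⟨n, hn, hne⟩ := P.conj_eq_normalizer_conj_of_mem x a⁻¹ (hDP hxD) (by rwa [inv_inv])
    rw [inv_inv] at hne
    by_cases hnM : n⁻¹ ∈ S.M
    · left
      refine hnorm_of_conj a ?_
      rw [hne, show n⁻¹ * x * n = n⁻¹ * x * (n⁻¹)⁻¹ by group]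
      exact (Subgroup.mem_normalizer_iff.1 hnM x).1 hxD
    · right
      have hgn : g⁻¹ * n⁻¹ ∈ S.M ⊓ N := by
        have := (Subgroup.mul_mem_iff_of_index_two (H := (S.M ⊓ N).subgroupOf N) hidx2
          (a := ⟨g⁻¹, inv_mem hg⟩) (b := ⟨n⁻¹, inv_mem hn⟩)).2
          (iff_of_false (fun h => hgD (by
              have h' : g⁻¹ ∈ S.M ⊓ N := h
              simpa using inv_mem h'))
            (fun h => hnM h.1))
        exact this
      refine ⟨g⁻¹ * n⁻¹ * x * (g⁻¹ * n⁻¹)⁻¹, (Subgroup.mem_normalizer_iff.1 hgn.1 x).1 hxD, ?_⟩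
      rw [hne]; group
  -- the generators `i`, `s4 = i y`, `w`, `s1`
  set s4 := i * y with hs4
  have hiy : i * y * i⁻¹ = y⁻¹ := hiP y hyP
  have hix : i * x * i⁻¹ = x⁻¹ := hiP x (hDP hxD)
  have hyx : y * x = x * y := hPcomm y hyP x (hDP hxD)
  have hiy' : i * y * i = y⁻¹ := by rw [← hiy, hiinv]
  have hix' : i * x = x⁻¹ * i := mul_inv_eq_iff_eq_mul.1 hix
  have hs4sq : s4 * s4 = 1 := by
    calc s4 * s4 = (i * y * i) * y := by rw [hs4]; group
      _ = 1 := by rw [hiy', inv_mul_cancel]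
  have hs4x : s4 * x = x⁻¹ * s4 := by
    rw [hs4, mul_assoc, hyx, ← mul_assoc, hix', mul_assoc]
  have hs4M : s4 ∈ S.M := mul_mem hiM (hPM hyP)
  have hs4C : s4 ∉ S.C := fun h => hiC (by
    have := mul_mem h (inv_mem hyC)
    rwa [hs4, mul_inv_cancel_right] at this)
  obtain ⟨w, hw, hw1, hws4⟩ := hV.exists_fixed hs4M hs4sq
  have hxC : ∀ c ∈ S.C, c * x = x * c := fun c hc => S.mem_C_iff.1 hc
  have hwx : w * x = x * w := hxC _ (hV.le_C hw)
  set i' := g⁻¹ * i * g with hi'
  have hi'MN : i' ∈ S.M ⊓ N := hMNn g hg i hiMN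
  have hi'sq : i' * i' = 1 := by
    calc i' * i' = g⁻¹ * (i * i) * g := by rw [hi']; group
      _ = 1 := by rw [hii]; group
  obtain ⟨v₀, hv₀, hv₀1, hi'v⟩ := hV.exists_fixed hi'MN.1 hi'sq
  set s1 := g * v₀ * g⁻¹ with hs1
  have hs1sq : s1 * s1 = 1 := by
    calc s1 * s1 = g * (v₀ * v₀) * g⁻¹ := by rw [hs1]; group
      _ = 1 := by rw [hV.sq hv₀]; group
  have hs1i : s1 * i = i * s1 := by
    calc s1 * i = g * (v₀ * i') * g⁻¹ := by rw [hs1, hi']; group
      _ = i * s1 := by rw [← hi'v, hs1, hi']; group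
  have hs1y : s1 * y = y * s1 := by
    calc s1 * y = g * (v₀ * x) * g⁻¹ := by rw [hs1, hy]; group
      _ = y * s1 := by rw [hxC _ (hV.le_C hv₀), hs1, hy]; group
  have hs1s4 : s1 * s4 = s4 * s1 := by
    exact ((show Commute s1 i from hs1i).mul_right hs1y).eq
  have hbase : (x * s1) ^ 3 = 1 := by
    have h := hV.mul_pow_three hv₀ (hPC hx'P) hx'3 hx'D
    calc (x * s1) ^ 3 = ((g * v₀⁻¹) * (v₀ * x') * (g * v₀⁻¹)⁻¹) ^ 3 := by
          congr 1; rw [hs1, hx']; group
      _ = 1 := by rw [conj_pow, h]; group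
  have hs1nM : s1 ∉ S.M := by
    intro hM
    by_cases hC : s1 ∈ S.C
    · have hP1 := hV.mem_P hyP hy3 hyD hC hs1y
      have h9 := Subgroup.orderOf_dvd_natCard _ hP1
      rw [hP] at h9
      have h2 : orderOf s1 ∣ 2 := orderOf_dvd_of_pow_eq_one (by rw [pow_two]; exact hs1sq)
      have : s1 = 1 := orderOf_eq_one_iff.1 (Nat.eq_one_of_dvd_coprimes (by norm_num) h2 h9)
      exact hv₀1 (by rwa [hs1, mul_inv_eq_one, mul_eq_left] at this)
    · have hx1 : s1 * x * s1⁻¹ = x⁻¹ := by
        have hd : s1 * x * s1⁻¹ ∈ D := (Subgroup.mem_normalizer_iff.1 hM x).1 hxD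
        rw [← hzx] at hd
        obtain ⟨e, he⟩ := hd
        have he' : x ^ e = s1 * x * s1⁻¹ := he
        have h0 := Int.emod_nonneg e (show (3 : ℤ) ≠ 0 by norm_num)
        have h1 := Int.emod_lt_of_pos e (show (0 : ℤ) < 3 by norm_num)
        rw [← zpow_mod_orderOf, hx] at he'
        push_cast at he'
        interval_cases h : e % 3
        · exfalso
          rw [zpow_zero] at he'
          exact S.x_ne_one (by
            have h' := he'.symm
            rwa [mul_inv_eq_one, mul_eq_left] at h')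
        · exfalso
          rw [zpow_one] at he'
          exact hC (S.mem_C_iff.2 (mul_inv_eq_iff_eq_mul.1 he'.symm))
        · rw [← he', show (2 : ℤ) = ((2 : ℕ) : ℤ) from rfl, zpow_natCast]
          exact eq_inv_of_mul_eq_one_left (by rw [← pow_succ, hx3])
      have h2 : (x * s1) ^ 2 = 1 := by
        calc (x * s1) ^ 2 = x * (s1 * x * s1⁻¹) * (s1 * s1) := by rw [pow_two]; group
          _ = 1 := by rw [hx1, hs1sq, mul_inv_cancel, one_mul]
      have h1 : x * s1 = 1 := by
        have := hbase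
        rwa [pow_succ, h2, one_mul] at this
      exact hC (by rw [eq_inv_of_mul_eq_one_right h1]; exact inv_mem (S.D_le_C hxD))
  -- every involution is conjugate into `V`
  have hfusion : ∀ u : G, orderOf u = 2 → ∃ a v, v ∈ V ∧ v ≠ 1 ∧ u = a * v * a⁻¹ := by
    intro u hu
    have hM : Nat.card S.M = 2 ^ 3 * 9 := hMc
    obtain ⟨T⟩ : Nonempty (Sylow 2 S.M) := inferInstance
    have hT : Nat.card ((T : Subgroup S.M).map S.M.subtype) = 2 ^ 3 := by
      rw [Subgroup.card_map_of_injective S.M.subtype_injective, card_sylow_eq hM (by norm_num) T]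
    obtain ⟨Q, hTQ⟩ := (IsPGroup.of_card hT).exists_le_sylow
    have hQ8 : Nat.card (Q : Subgroup G) = 2 ^ 3 :=
      card_sylow_eq (show Nat.card G = 2 ^ 3 * 315 from hN) (by norm_num) Q
    have hQM : (Q : Subgroup G) ≤ S.M :=
      (Subgroup.eq_of_le_of_card_ge hTQ (by rw [hT, hQ8])).symm.trans_le (Subgroup.map_subtype_le _)
    have hidx : ((Q : Subgroup G) ⊓ S.C).relIndex (Q : Subgroup G) = 2 := by
      rw [inf_comm, Subgroup.inf_relIndex_right]
      haveI : (S.C.subgroupOf S.M).Normal := Subgroup.normal_of_index_eq_two S.index_C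
      have h := Subgroup.relIndex_dvd_index_of_normal (S.C.subgroupOf S.M)
        ((Q : Subgroup G).subgroupOf S.M)
      rw [Subgroup.relIndex_subgroupOf hQM, S.index_C] at h
      rcases (Nat.dvd_prime Nat.prime_two).1 h with h1 | h1
      · have h8 := Subgroup.card_dvd_of_le (Subgroup.relIndex_eq_one.1 h1)
        rw [hQ8, show Nat.card S.C = 36 from hCc] at h8
        norm_num at h8
      · exact h1
    have hno2 : ∀ H : Subgroup G, H.index ≠ 2 := fun H hH => by
      have := two_lt_index hG H (fun e => by rw [e, Subgroup.index_top] at hH; omega)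
      omega
    obtain ⟨a, ha⟩ := thompson_transfer_sylow hno2 Q _ inf_le_left hidx hu
    have huu : u * u = 1 := (orderOf_eq_two_iff_sq.1 hu).2
    refine ⟨a, a⁻¹ * u * a, (hV.mem_iff _).2 ⟨ha.2, ?_⟩, ?_, by group⟩
    · calc a⁻¹ * u * a * (a⁻¹ * u * a) = a⁻¹ * (u * u) * a := by group
        _ = 1 := by rw [huu]; group
    · intro h
      refine ne_one_of_orderOf_two hu ?_
      calc u = a * (a⁻¹ * u * a) * a⁻¹ := by group
        _ = 1 := by rw [h]; group
  -- centralisers of `w` and `s1` see only one conjugate of `D`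
  have hD_of_comm : ∀ v ∈ V, v ≠ 1 → ∀ z : G, z ^ 3 = 1 → z * v = v * z → z ∈ D := fun v hv hv1 z hz h =>
    hV.mem_D_of_three hv hv1
      (hV.centralizer_le hG hN hv hv1 (Subgroup.mem_centralizer_singleton_iff.2 h)) hz h
  have hs4ne : s4 ≠ 1 := fun h => hs4C (h ▸ one_mem _)
  obtain ⟨h, v, hv, hv1, hhv⟩ := hfusion s4 (orderOf_eq_prime (by rw [pow_two]; exact hs4sq) hs4ne)
  have hKv : ∀ z : G, z * v = v * z → z ∈ S.M := fun z hz =>
    hV.centralizer_le hG hN hv hv1 (Subgroup.mem_centralizer_singleton_iff.2 hz)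
  have hvs4 : v = h⁻¹ * s4 * h := by rw [hhv]; group
  set a := h⁻¹ * s1 * h with ha
  set b := h⁻¹ * w * h with hb
  have hav : a * v = v * a := by
    calc a * v = h⁻¹ * (s1 * s4) * h := by rw [ha, hvs4]; group
      _ = v * a := by rw [hs1s4, ha, hvs4]; group
  have hbv : b * v = v * b := by
    calc b * v = h⁻¹ * (w * s4) * h := by rw [hb, hvs4]; group
      _ = v * b := by rw [← hws4, hb, hvs4]; group
  have haM := hKv a hav
  have hbM := hKv b hbv
  set x4 := h * x * h⁻¹ with hx4
  have hx43 : x4 ^ 3 = 1 := by rw [hx4, conj_pow, hx3]; group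
  have hvx : v * x = x * v := hxC _ (hV.le_C hv)
  have hs4x4 : s4 * x4 = x4 * s4 := by
    calc s4 * x4 = h * (v * x) * h⁻¹ := by rw [hhv, hx4]; group
      _ = x4 * s4 := by rw [hvx, hhv, hx4]; group
  have hnotC : ∀ u : G, h⁻¹ * u * h ∈ S.C → u * x4 = x4 * u := fun u hu => by
    calc u * x4 = h * ((h⁻¹ * u * h) * x) * h⁻¹ := by rw [hx4]; group
      _ = x4 * u := by rw [hxC _ hu, hx4]; group
  have hinv_mem : ∀ d ∈ D, s4 * d = d * s4 → d = 1 := by
    intro d hd hcomm
    rw [← hzx] at hd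
    obtain ⟨e, rfl⟩ := hd
    have hsx : s4 * x * s4⁻¹ = x⁻¹ := mul_inv_eq_iff_eq_mul.2 hs4x
    have h1 : (x ^ e)⁻¹ = x ^ e := by
      rw [← inv_zpow, ← hsx, conj_zpow]
      exact mul_inv_eq_iff_eq_mul.2 hcomm
    have h2 : (x ^ e) * (x ^ e) = 1 := by
      nth_rewrite 1 [← h1]
      exact inv_mul_cancel _
    exact S.eq_one_of_mem_D (zpow_mem hxD e) h2
  have haC : a ∉ S.C := by
    intro hC
    have hc := hnotC s1 hC
    have hmem : g⁻¹ * x4 * g ∈ D := hD_of_comm v₀ hv₀ hv₀1 _ (by
        rw [show g⁻¹ * x4 * g = g⁻¹ * x4 * (g⁻¹)⁻¹ by group, conj_pow, hx43]; group) (by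
      calc g⁻¹ * x4 * g * v₀ = g⁻¹ * (x4 * s1) * g := by rw [hs1]; group
        _ = v₀ * (g⁻¹ * x4 * g) := by rw [← hc, hs1]; group)
    -- `x4` is then a power of `y`, inverted by `s4`
    rw [← hzx] at hmem
    obtain ⟨e, he⟩ := hmem
    have he' : x4 = y ^ e := by
      rw [hy, conj_zpow, show x ^ e = g⁻¹ * x4 * g from he]; group
    have hs4y : s4 * y * s4⁻¹ = y⁻¹ := by
      rw [hs4]
      calc i * y * y * (i * y)⁻¹ = i * y * i⁻¹ := by group
        _ = y⁻¹ := hiy
    have h1 : x4⁻¹ = x4 := by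
      rw [he', ← inv_zpow, ← hs4y, conj_zpow, ← he']
      exact mul_inv_eq_iff_eq_mul.2 hs4x4
    have h2 : x4 * x4 = 1 := by
      nth_rewrite 1 [← h1]
      exact inv_mul_cancel _
    have h3 : x4 = 1 := by
      have := hx43
      rwa [pow_succ, pow_two, h2, one_mul] at this
    rw [hx4, mul_inv_eq_one, mul_eq_left] at h3
    exact S.x_ne_one h3
  have hbC : b ∉ S.C := by
    intro hC
    have hmem := hD_of_comm w hw hw1 x4 hx43 (hnotC w hC).symm
    have h3 := hinv_mem x4 hmem hs4x4
    rw [hx4, mul_inv_eq_one, mul_eq_left] at h3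
    exact S.x_ne_one h3
  have habC : a * b ∈ S.C := (S.mul_mem_C_iff haM hbM).2 (iff_of_false haC hbC)
  obtain ⟨d, hd, u, hu, hab⟩ := hV.decomp hv hv1 habC (by
    rw [mul_assoc, hbv, ← mul_assoc, hav, mul_assoc])
  -- `u ∈ {1, v}`
  have haa : a * a = 1 := by
    calc a * a = h⁻¹ * (s1 * s1) * h := by rw [ha]; group
      _ = 1 := by rw [hs1sq]; group
  have hbb : b * b = 1 := by
    calc b * b = h⁻¹ * (w * w) * h := by rw [hb]; group
      _ = 1 := by rw [hV.sq hw]; group
  have hau : a * u = u * a := by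
    -- conjugating by `a` inverts `a b`
    have hd' : a * d * a⁻¹ ∈ D := (Subgroup.mem_normalizer_iff.1 haM d).1 hd
    have hu' : a * u * a⁻¹ ∈ V := hV.conj_mem haM hu
    have e : (a * d * a⁻¹) * (a * u * a⁻¹) = d⁻¹ * u := by
      calc (a * d * a⁻¹) * (a * u * a⁻¹) = a * (a * b) * a⁻¹ := by rw [hab]; group
        _ = b * a := by
          rw [← mul_assoc a a b, haa, one_mul, inv_eq_of_mul_eq_one_left haa]
        _ = (a * b)⁻¹ := by
          rw [mul_inv_rev, inv_eq_of_mul_eq_one_left haa, inv_eq_of_mul_eq_one_left hbb]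
        _ = u⁻¹ * d⁻¹ := by rw [hab, mul_inv_rev]
        _ = u * d⁻¹ := by rw [inv_eq_of_mul_eq_one_left (hV.sq hu)]
        _ = d⁻¹ * u := (S.comm_D (hV.le_C hu) (inv_mem hd)).symm
    have hmemD : (a * d * a⁻¹)⁻¹ * d⁻¹ ∈ D := mul_mem (inv_mem hd') (inv_mem hd)
    have e2 : (a * d * a⁻¹)⁻¹ * d⁻¹ = (a * u * a⁻¹) * u := by
      calc (a * d * a⁻¹)⁻¹ * d⁻¹ = (a * d * a⁻¹)⁻¹ * (d⁻¹ * u) * u⁻¹ := by group
        _ = (a * u * a⁻¹) * u⁻¹ := by rw [← e]; group
        _ = (a * u * a⁻¹) * u := by rw [inv_eq_of_mul_eq_one_left (hV.sq hu)]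
    have h1 := hV.eq_one_of_mem_D (mul_mem hu' hu) (e2 ▸ hmemD)
    rw [mul_eq_one_iff_eq_inv, inv_eq_of_mul_eq_one_left (hV.sq hu)] at h1
    exact mul_inv_eq_iff_eq_mul.1 h1
  have hu_cases : u = 1 ∨ u = v := by
    by_cases hu1 : u = 1
    · exact Or.inl hu1
    · exact Or.inr (hV.fixed_unique hiM hiC hyC hy3 hyD hiy haM haC hu hu1 hv hv1 hau hav)
  have hd3 : d ^ 3 = 1 := S.pow_three_of_mem_D hd
  -- the last relation
  have hlast : (s1 * (w * s4)) ^ 3 = 1 := by
    rcases hu_cases with rfl | rfl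
    · -- then an element of a conjugate of `D` would permute three pairwise commuting conjugates
      exfalso
      rw [mul_one] at hab
      set c := h * d * h⁻¹ with hc
      have hcw : s1 * w = c := by
        rw [hc, ← hab, ha, hb]; group
      have hc3 : c ^ 3 = 1 := by rw [hc, conj_pow, hd3]; group
      have hw' : w = c⁻¹ * s1 := by
        rw [← hcw, mul_inv_rev, inv_eq_of_mul_eq_one_left hs1sq,
          inv_eq_of_mul_eq_one_left (hV.sq hw), mul_assoc, hs1sq, mul_one]
      have hsc : s1 * c⁻¹ = c * s1 := by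
        rw [← hcw]
        calc s1 * (s1 * w)⁻¹ = s1 * w⁻¹ * s1⁻¹ := by group
          _ = s1 * w * s1 := by
            rw [inv_eq_of_mul_eq_one_left (hV.sq hw), inv_eq_of_mul_eq_one_left hs1sq]
      have hcwc : c * s1 * c⁻¹ = w := by
        have hcc : c * c = c⁻¹ := eq_inv_of_mul_eq_one_left (by rw [← pow_two, ← pow_succ]; exact hc3)
        rw [mul_assoc, hsc, ← mul_assoc, hcc, hw']
      have hmem : c * y * c⁻¹ ∈ D := hD_of_comm w hw hw1 _ (by rw [conj_pow, hy3]; group) (by
        calc c * y * c⁻¹ * w = c * y * c⁻¹ * (c * s1 * c⁻¹) := by rw [hcwc]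
          _ = c * (y * s1) * c⁻¹ := by group
          _ = c * s1 * c⁻¹ * (c * y * c⁻¹) := by rw [← hs1y]; group
          _ = w * (c * y * c⁻¹) := by rw [hcwc])
      obtain ⟨k, hk⟩ : ∃ k : ℤ, x ^ k = c * y * c⁻¹ := by
        rw [← hzx] at hmem; exact hmem
      have hxc : (c * x * c⁻¹) ∈ (P : Subgroup G) := by
        have hC : c * x * c⁻¹ ∈ S.C := by
          -- it commutes with the generator `c y c⁻¹` of `D`
          have hgen : Subgroup.zpowers (c * y * c⁻¹) = D := Subgroup.eq_of_le_of_card_ge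
            (Subgroup.zpowers_le.2 hmem) (by
              rw [Nat.card_zpowers, show c * y * c⁻¹ = MulAut.conj c y from rfl,
                MulEquiv.orderOf_eq, hD]
              refine le_of_eq (orderOf_eq_prime hy3 fun e => hyD (e ▸ one_mem D)).symm)
          have hCgen : S.C = Subgroup.centralizer ({c * y * c⁻¹} : Set G) := by
            show Subgroup.centralizer (D : Set G) = _
            rw [← hgen, Subgroup.zpowers_eq_closure, Subgroup.centralizer_closure]
          rw [hCgen, Subgroup.mem_centralizer_singleton_iff]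
          calc c * x * c⁻¹ * (c * y * c⁻¹) = c * (x * y) * c⁻¹ := by group
            _ = c * y * c⁻¹ * (c * x * c⁻¹) := by rw [← hyx]; group
        refine hV.mem_P hyP hy3 hyD hC ?_
        -- conjugate `[x ^ k, y] = 1` by `c * c`
        have h1 : Commute (x ^ k) y := (show Commute x y from hyx.symm).zpow_left k
        have h2 := h1.map (MulAut.conj (c * c)).toMonoidHom
        have hccc : c * c * c = 1 := by rw [← pow_two, ← pow_succ]; exact hc3
        have e1 : (MulAut.conj (c * c)).toMonoidHom (x ^ k) = y := by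
          show c * c * x ^ k * (c * c)⁻¹ = y
          rw [hk]
          calc c * c * (c * y * c⁻¹) * (c * c)⁻¹ = (c * c * c) * y * (c * c * c)⁻¹ := by group
            _ = y := by rw [hccc]; group
        have e2 : (MulAut.conj (c * c)).toMonoidHom y = (c * x * c⁻¹) ^ k := by
          show c * c * y * (c * c)⁻¹ = _
          rw [conj_zpow, hk]; group
        rw [e1, e2] at h2
        -- `x` is a power of `x ^ k`
        obtain ⟨l, hl⟩ : ∃ l : ℤ, (x ^ k) ^ l = x := by
          have hgen : Subgroup.zpowers (x ^ k) = D := by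
            rw [hk]
            exact Subgroup.eq_of_le_of_card_ge (Subgroup.zpowers_le.2 hmem) (by
              rw [Nat.card_zpowers, show c * y * c⁻¹ = MulAut.conj c y from rfl,
                MulEquiv.orderOf_eq, hD]
              exact le_of_eq (orderOf_eq_prime hy3 fun e => hyD (e ▸ one_mem D)).symm)
          have hmx : x ∈ Subgroup.zpowers (x ^ k) := hgen.symm ▸ hxD
          exact hmx
        have h3 := h2.zpow_right l
        rw [conj_zpow, conj_zpow, hl] at h3
        exact h3.symm.eq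
      rcases hconjP c hxc with hcM | ⟨d', hd', hcx⟩
      · -- `c` normalises `D` but moves `y` into it
        have h1 := (Subgroup.mem_normalizer_iff.1 hcM y).2 hmem
        exact hyD h1
      · -- then `c ^ 2` normalises `D`, hence so does `c`
        have hgd : g * d' * g⁻¹ ∈ Subgroup.zpowers y := by
          rw [← hzx] at hd'
          obtain ⟨l, rfl⟩ := hd'
          exact ⟨l, show y ^ l = g * x ^ l * g⁻¹ by rw [hy, conj_zpow]⟩
        obtain ⟨l, hl⟩ := hgd
        have hl' : y ^ l = c * x * c⁻¹ := by rw [hcx]; exact hl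
        have hc2M : c * c ∈ S.M := hnorm_of_conj (c * c) (by
          have : c * c * x * (c * c)⁻¹ = (c * y * c⁻¹) ^ l := by
            rw [conj_zpow, hl']; group
          rw [this]
          exact zpow_mem hmem l)
        have hcM : c ∈ S.M := by
          have : c = (c * c) * (c * c) := by
            calc c = c ^ 3 * c := by rw [hc3, one_mul]
              _ = _ := by simp only [pow_succ, pow_zero, one_mul]; group
          rw [this]
          exact mul_mem hc2M hc2M
        exact hyD ((Subgroup.mem_normalizer_iff.1 hcM y).2 hmem)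
    · have : s1 * (w * s4) = h * d * h⁻¹ := by
        have e1 : d * u * u = a * b * u := by rw [hab]
        rw [mul_assoc, hV.sq hu, mul_one] at e1
        rw [e1, ha, hb, hvs4]; group
      rw [this, conj_pow, hd3]; group
  -- the Moore system
  set s2 := w * s4 with hs2
  have hs2sq : s2 * s2 = 1 := by
    rw [hs2, mul_assoc, ← mul_assoc s4 w, hws4, mul_assoc, hs4sq, mul_one, hV.sq hw]
  have hs2x : s2 * x = x⁻¹ * s2 := by
    have hwx' : w * x⁻¹ = x⁻¹ * w := ((show Commute w x from hwx).inv_right).eq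
    rw [hs2, mul_assoc, hs4x, ← mul_assoc, hwx', mul_assoc]
  have hs23 : (s2 * i) ^ 3 = 1 := by
    have e : s2 * i = w * y⁻¹ := by rw [hs2, hs4, mul_assoc, hiy']
    rw [e]
    refine hV.mul_pow_three hw (inv_mem hyC) (by rw [inv_pow, hy3, inv_one]) fun hd' => hyD ?_
    simpa using inv_mem hd'
  have hs34 : (i * s4) ^ 3 = 1 := by
    rw [hs4, ← mul_assoc, hii, one_mul, hy3]
  let sfun : ℕ → G := fun m => if m = 1 then s1 else if m = 2 then s2 else if m = 3 then i else s4
  let MS : MooreSystem G :=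
    { x := x
      s := sfun
      x_cube := hx3
      sq := fun m h1 h2 => by
        interval_cases m <;> simp only [sfun] <;> norm_num <;> assumption
      inv := fun m h1 h2 => by
        interval_cases m <;> simp only [sfun] <;> norm_num <;> assumption
      base := by simpa [sfun] using hbase
      braid := fun m h1 h2 => by
        interval_cases m <;> simp only [sfun] <;> norm_num
        · exact braid_of_cube hs1sq hs2sq hlast
        · exact braid_of_cube hs2sq hii hs23
        · exact braid_of_cube hii hs4sq hs34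
      comm := fun m k h1 h2 h3 => by
        have hm : m ≤ 2 := by omega
        interval_cases m <;> interval_cases k <;> simp only [sfun] <;> norm_num
        · exact hs1i
        · exact hs1s4
        · rw [hs2, mul_assoc, hs4sq, mul_one, ← mul_assoc, hws4, mul_assoc, hs4sq, mul_one] }
  refine hex (MS.exists_index_seven hN ?_)
  -- generation
  set L := MS.H 4 with hL
  have hxL : x ∈ L := MS.x_mem 4
  have hs1L : s1 ∈ L := by simpa [MS, sfun] using MS.s_mem (m := 1) (n := 4) le_rfl (by norm_num)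
  have hs2L : s2 ∈ L := by simpa [MS, sfun] using MS.s_mem (m := 2) (n := 4) (by norm_num) (by norm_num)
  have hiL : i ∈ L := by simpa [MS, sfun] using MS.s_mem (m := 3) (n := 4) (by norm_num) (by norm_num)
  have hs4L : s4 ∈ L := by simpa [MS, sfun] using MS.s_mem (m := 4) (n := 4) (by norm_num) le_rfl
  have hyL : y ∈ L := by
    have := mul_mem hiL hs4L
    rwa [hs4, ← mul_assoc, hii, one_mul] at this
  have hwL : w ∈ L := by
    have := mul_mem hs2L hs4L
    rwa [hs2, mul_assoc, hs4sq, mul_one] at this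
  have hCL : S.C ≤ L := by
    have h9 : 9 ∣ Nat.card (S.C ⊓ L : Subgroup G) := by
      have hle : (P : Subgroup G) ≤ S.C ⊓ L := by
        have h3 : (P : Subgroup G) ⊓ L = P := by
          refine Subgroup.eq_of_le_of_card_ge inf_le_left ?_
          have hd := Subgroup.card_dvd_of_le (inf_le_left : (P : Subgroup G) ⊓ L ≤ P)
          rw [hP] at hd ⊢
          have hDle : D ≤ (P : Subgroup G) ⊓ L := le_inf hDP (by
            rw [← hzx, Subgroup.zpowers_le]; exact hxL)
          have hne : Nat.card ((P : Subgroup G) ⊓ L : Subgroup G) ≠ 3 := fun h3 =>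
            hyD ((Subgroup.eq_of_le_of_card_ge hDle (by rw [h3, hD])).ge ⟨hyP, hyL⟩)
          have h3d := Subgroup.card_dvd_of_le hDle
          rw [hD] at h3d
          have := Nat.le_of_dvd (by norm_num) hd
          interval_cases h : Nat.card ((P : Subgroup G) ⊓ L : Subgroup G) <;> omega
        exact le_inf hPC (h3 ▸ inf_le_right)
      exact hP ▸ Subgroup.card_dvd_of_le hle
    have h4 : 4 ∣ Nat.card (S.C ⊓ L : Subgroup G) := by
      have hVL : V ⊓ L = V := by
        refine Subgroup.eq_of_le_of_card_ge inf_le_left ?_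
        have hd := Subgroup.card_dvd_of_le (inf_le_left : V ⊓ L ≤ V)
        rw [hV.card] at hd ⊢
        have hw'L : y * w * y⁻¹ ∈ L := mul_mem (mul_mem hyL hwL) (inv_mem hyL)
        have hne : y * w * y⁻¹ ≠ w := fun e =>
          hV.not_comm hw hw1 hyC hy3 hyD (mul_inv_eq_iff_eq_mul.1 e)
        have hne1 : y * w * y⁻¹ ≠ 1 := fun e => hw1 (by rwa [mul_inv_eq_one, mul_eq_left] at e)
        have h3 : 3 ≤ Nat.card (V ⊓ L : Subgroup G) := by
          exact three_le_card (a := w) (b := y * w * y⁻¹) ⟨hw, hwL⟩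
            ⟨hV.conj_mem (S.C_le hyC) hw, hw'L⟩ hw1 hne1 hne.symm
        have := Nat.le_of_dvd (by norm_num) hd
        interval_cases h : Nat.card (V ⊓ L : Subgroup G) <;> omega
      rw [← hV.card]
      exact Subgroup.card_dvd_of_le (le_inf (fun v hv => hV.le_C hv) (hVL ▸ inf_le_right))
    have h36 : 36 ∣ Nat.card (S.C ⊓ L : Subgroup G) :=
      Nat.Coprime.mul_dvd_of_dvd_of_dvd (by norm_num : Nat.Coprime 4 9) h4 h9
    exact (Subgroup.eq_of_le_of_card_ge inf_le_left (by
      rw [show Nat.card S.C = 36 from hCc]; exact Nat.le_of_dvd Nat.card_pos h36)).symm.trans_le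
      inf_le_right
  have hML : S.M ≤ L := fun m hm => by
    by_cases hmC : m ∈ S.C
    · exact hCL hmC
    · have := mul_mem hiL (hCL ((S.mul_mem_C_iff hiM hm).2 (iff_of_false hiC hmC)))
      rwa [← mul_assoc, hii, one_mul] at this
  by_contra htop
  have hlt : S.M < L := lt_of_le_of_ne hML fun e => hs1nM (e.ge hs1L)
  have hMidx : S.M.index = 35 := by
    have h := S.M.card_mul_index
    rw [show Nat.card S.M = 72 from hMc, hN] at h
    omega
  have hd35 := hMidx ▸ Subgroup.index_dvd_of_le hlt.le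
  have hl35 := hMidx ▸ Subgroup.index_strictAnti hlt
  have h5 := lt_index_of_not_dvd hG htop (b := 5) (by rw [hN]; decide +kernel)
  have h7 := hno L
  interval_cases h : L.index <;> omega

end CfsgLib.Classification.AltSevenOrder
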