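import Cfsg.Agent.Classification.AltSevenOrder.ThreeLocal

/-!
# The four-group of the three-local subgroup

`C(D) = D × (V ⋊ C₃)` with `V` a four-group, and the centralisers of the involutions of `V` lie in
`N(D)`.
-/

set_option autoImplicit false
set_option linter.style.haveILetI false

namespace CfsgLib.Classification.AltSevenOrder

open CfsgLib.Small CfsgLib.Classification.SmallOrders

set_option synthInstance.maxSize 4000 in
theorem perm_four_mul_pow : ∀ a b : Equiv.Perm (Fin 4), Equiv.Perm.sign a = 1 → a ^ 3 = 1 →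
    a ≠ 1 → b ^ 2 = 1 → Equiv.Perm.sign b = 1 → (b * a) ^ 3 = 1 := by decide +kernel

set_option synthInstance.maxSize 4000 in
theorem perm_four_klein : ∀ a b : Equiv.Perm (Fin 4), b ≠ 1 → b ^ 2 = 1 → Equiv.Perm.sign b = 1 →
    Equiv.Perm.sign a = 1 → a * b = b * a → a ^ 2 = 1 := by decide +kernel

set_option synthInstance.maxSize 4000 in
theorem perm_four_three : ∀ a b : Equiv.Perm (Fin 4), a ≠ 1 → a ^ 3 = 1 →
    Equiv.Perm.sign b = 1 → a * b = b * a → b = 1 ∨ b = a ∨ b = a ^ 2 := by decide +kernel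

set_option synthInstance.maxSize 4000 in
theorem perm_four_two : ∀ a : Equiv.Perm (Fin 4), a ^ 4 = 1 → Equiv.Perm.sign a = 1 → a ^ 2 = 1 := by
  decide +kernel

set_option synthInstance.maxSize 4000 in
theorem perm_four_comm : ∀ a b : Equiv.Perm (Fin 4), Equiv.Perm.sign a = 1 →
    Equiv.Perm.sign b = 1 → (a * b * a⁻¹ * b⁻¹) ^ 2 = 1 := by decide +kernel

theorem card_klein_perm :
    (Finset.univ.filter fun a : Equiv.Perm (Fin 4) => a ^ 2 = 1 ∧ Equiv.Perm.sign a = 1).card = 4 := by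
  decide +kernel

/-- The three-local data in a simple group of order 2520 without subgroups of index seven. -/
structure Setup (G : Type*) [Group G] where
  /-- the subgroup of order three -/
  D : Subgroup G
  /-- a Sylow 3-subgroup containing it -/
  P : Sylow 3 G
  /-- a generator of `D` -/
  x : G
  card_D : Nat.card D = 3
  card_P : Nat.card (P : Subgroup G) = 9
  D_le : D ≤ (P : Subgroup G)
  P_le : (P : Subgroup G) ≤ Subgroup.centralizer (D : Set G)
  card_NP : Nat.card (Subgroup.normalizer ((P : Subgroup G) : Set G)) = 36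
  card_M : Nat.card (Subgroup.normalizer (D : Set G)) = 72
  card_C : Nat.card (Subgroup.centralizer (D : Set G)) = 36
  sylow_C : Nat.card (Sylow 3 (Subgroup.centralizer (D : Set G))) = 4
  sylow_M : Nat.card (Sylow 3 (Subgroup.normalizer (D : Set G))) = 4
  orderOf_x : orderOf x = 3
  x_mem : x ∈ D

namespace Setup

variable {G : Type*} [Group G] [Finite G] (S : Setup G)

/-- `N(D)`. -/
abbrev M : Subgroup G := Subgroup.normalizer (S.D : Set G)

/-- `C(D)`. -/
abbrev C : Subgroup G := Subgroup.centralizer (S.D : Set G)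

/-- `V` is the normal four-group of `C(D)`. -/
structure IsKlein (V : Subgroup G) : Prop where
  card : Nat.card V = 4
  mem_iff : ∀ v, v ∈ V ↔ v ∈ S.C ∧ v * v = 1

omit [Finite G] in
theorem C_le : S.C ≤ S.M := Subgroup.centralizer_le_normalizer _

omit [Finite G] in
theorem D_le_C : S.D ≤ S.C := S.D_le.trans S.P_le

theorem zpowers_x : Subgroup.zpowers S.x = S.D :=
  Subgroup.eq_of_le_of_card_ge (Subgroup.zpowers_le.2 S.x_mem)
    (by rw [Nat.card_zpowers, S.orderOf_x, S.card_D])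

theorem x_pow_three : S.x ^ 3 = 1 := S.orderOf_x ▸ pow_orderOf_eq_one S.x

theorem x_ne_one : S.x ≠ 1 := fun h => by
  have := S.orderOf_x
  rw [h, orderOf_one] at this
  omega

theorem mem_C_iff {g : G} : g ∈ S.C ↔ g * S.x = S.x * g := by
  rw [show S.C = Subgroup.centralizer (Subgroup.zpowers S.x : Set G) by rw [S.zpowers_x],
    Subgroup.zpowers_eq_closure, Subgroup.centralizer_closure, Subgroup.mem_centralizer_singleton_iff]

theorem pow_three_of_mem_D {d : G} (hd : d ∈ S.D) : d ^ 3 = 1 :=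
  orderOf_dvd_iff_pow_eq_one.1 (S.card_D ▸ Subgroup.orderOf_dvd_natCard _ hd)

theorem eq_one_of_mem_D {d : G} (hd : d ∈ S.D) (h : d * d = 1) : d = 1 := by
  have h3 := S.pow_three_of_mem_D hd
  rwa [pow_succ, pow_two, h, one_mul] at h3

omit [Finite G] in
theorem comm_D {c d : G} (hc : c ∈ S.C) (hd : d ∈ S.D) : d * c = c * d :=
  Subgroup.mem_centralizer_iff.1 hc d hd

theorem index_C : (S.C.subgroupOf S.M).index = 2 := by
  have h := (S.C.subgroupOf S.M).card_mul_index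
  rw [Nat.card_congr (Subgroup.subgroupOfEquivOfLe S.C_le).toEquiv, S.card_C, S.card_M] at h
  omega

theorem mul_mem_C_iff {a b : G} (ha : a ∈ S.M) (hb : b ∈ S.M) :
    a * b ∈ S.C ↔ (a ∈ S.C ↔ b ∈ S.C) :=
  Subgroup.mul_mem_iff_of_index_two (H := S.C.subgroupOf S.M) S.index_C (a := ⟨a, ha⟩) (b := ⟨b, hb⟩)

theorem sq_mem_C {a : G} (ha : a ∈ S.M) : a * a ∈ S.C := (S.mul_mem_C_iff ha ha).2 Iff.rfl

theorem conj_mem_C {t c : G} (ht : t ∈ S.M) (hc : c ∈ S.C) : t * c * t⁻¹ ∈ S.C := by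
  have hn : (S.C.subgroupOf S.M).Normal := Subgroup.normal_of_index_eq_two S.index_C
  exact hn.conj_mem ⟨c, S.C_le hc⟩ hc ⟨t, ht⟩

/-- The permutation representation of `C(D)` on its Sylow 3-subgroups. -/
theorem exists_phi : ∃ φ : S.C →* Equiv.Perm (Fin 4), φ.ker = S.D.subgroupOf S.C ∧
    ∀ c, Equiv.Perm.sign (φ c) = 1 := by
  haveI : Fact (Nat.Prime 3) := ⟨Nat.prime_three⟩
  have hD' : Nat.card (S.D.subgroupOf S.C) = 3 := by
    rw [Nat.card_congr (Subgroup.subgroupOfEquivOfLe S.D_le_C).toEquiv, S.card_D]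
  have hC : Nat.card S.C = 3 ^ 2 * 4 := S.card_C
  have hDle : ∀ Q : Sylow 3 S.C, S.D.subgroupOf S.C ≤ (Q : Subgroup S.C) := by
    intro Q
    haveI : (S.D.subgroupOf S.C).Normal :=
      (Subgroup.normal_subgroupOf_iff_le_normalizer S.D_le_C).2 S.C_le
    exact (IsPGroup.of_card (n := 1) (by rw [hD', pow_one])).le_sylow_of_normal Q
  obtain ⟨φ, hker, -, h12, -⟩ := exists_sylow_action S.sylow_C
    (fun Q => card_sylow_eq hC (by norm_num) Q) _ hD' hDle (S.P.subtype S.P_le)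
  have hmul := φ.ker.card_mul_index
  rw [Subgroup.index_ker, hC] at hmul
  obtain ⟨r, hr⟩ := h12
  obtain ⟨s, hs⟩ := Subgroup.card_dvd_of_le hker
  rw [hD'] at hs
  rw [hs, hr] at hmul
  have hsr : s * r = 1 := by
    have e : 36 * (s * r) = 3 * s * (12 * r) := by ring
    norm_num at hmul
    omega
  obtain rfl : s = 1 := Nat.eq_one_of_mul_eq_one_right hsr
  obtain rfl : r = 1 := by simpa using hsr
  have hk : φ.ker = S.D.subgroupOf S.C :=
    (Subgroup.eq_of_le_of_card_ge hker (by rw [hs, hD'])).symm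
  have hidx : φ.range.index = 2 := by
    have h := φ.range.card_mul_index
    rw [hr, Nat.card_perm, Nat.card_eq_fintype_card, Fintype.card_fin] at h
    norm_num [Nat.factorial] at h
    omega
  have hA := Equiv.Perm.eq_alternatingGroup_of_index_eq_two hidx
  exact ⟨φ, hk, fun c => Equiv.Perm.mem_alternatingGroup.1 (hA ▸ (⟨c, rfl⟩ : φ c ∈ φ.range))⟩

theorem exists_klein : ∃ V, S.IsKlein V := by
  haveI : Fact (Nat.Prime 2) := ⟨Nat.prime_two⟩
  obtain ⟨φ, hker, hsign⟩ := S.exists_phi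
  have hC : Nat.card S.C = 2 ^ 2 * 9 := S.card_C
  obtain ⟨T⟩ : Nonempty (Sylow 2 S.C) := inferInstance
  have hT : Nat.card (T : Subgroup S.C) = 2 ^ 2 := card_sylow_eq hC (by norm_num) T
  have hmem : ∀ t, φ t = 1 → (t : G) ∈ S.D := fun t ht => by
    have : t ∈ φ.ker := ht
    rwa [hker] at this
  have hinj : ∀ t ∈ (T : Subgroup S.C), φ t = 1 → t = 1 := by
    intro t ht h1
    have h2 := Subgroup.orderOf_dvd_natCard _ ht
    have h3 := Subgroup.orderOf_dvd_natCard _ (hmem t h1)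
    rw [hT] at h2
    rw [S.card_D, Subgroup.orderOf_coe] at h3
    exact orderOf_eq_one_iff.1 (Nat.eq_one_of_dvd_coprimes (by norm_num) h2 h3)
  have himg : ∀ t ∈ (T : Subgroup S.C), φ t ^ 2 = 1 := fun t ht => by
    refine perm_four_two _ ?_ (hsign t)
    rw [← map_pow, show t ^ 4 = 1 from orderOf_dvd_iff_pow_eq_one.1
      ((Subgroup.orderOf_dvd_natCard _ ht).trans (dvd_of_eq hT)), map_one]
  classical
  haveI : Fintype (T : Subgroup S.C) := Fintype.ofFinite _
  let f : ↥(T : Subgroup S.C) →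
      {a : Equiv.Perm (Fin 4) // a ^ 2 = 1 ∧ Equiv.Perm.sign a = 1} :=
    fun t => ⟨φ t, himg t t.2, hsign t⟩
  have hf : Function.Bijective f := by
    refine (Nat.bijective_iff_injective_and_card f).2 ⟨fun t u h => ?_, ?_⟩
    · have h' : φ t = φ u := congrArg Subtype.val h
      refine Subtype.ext (inv_mul_eq_one.1 (hinj _ (mul_mem (inv_mem t.2) u.2) ?_))
      rw [map_mul, map_inv, h', inv_mul_cancel]
    · rw [hT, Nat.card_eq_fintype_card, Fintype.card_subtype, card_klein_perm]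
      norm_num
  refine ⟨(T : Subgroup S.C).map S.C.subtype, ?_, fun v => ⟨?_, ?_⟩⟩
  · rw [Subgroup.card_map_of_injective S.C.subtype_injective, hT]; norm_num
  · rintro ⟨t, ht, rfl⟩
    refine ⟨t.2, congrArg Subtype.val (hinj (t * t) (mul_mem ht ht) ?_)⟩
    rw [map_mul, ← pow_two, himg t ht]
  · rintro ⟨hv, hv2⟩
    have hb : φ ⟨v, hv⟩ ^ 2 = 1 := by
      rw [← map_pow, show (⟨v, hv⟩ : S.C) ^ 2 = 1 from Subtype.ext (by rw [pow_two]; exact hv2), map_one]
    obtain ⟨t, ht⟩ := hf.2 ⟨φ ⟨v, hv⟩, hb, hsign _⟩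
    have ht' : φ t = φ ⟨v, hv⟩ := congrArg Subtype.val ht
    set d : G := ((t : S.C) : G)⁻¹ * v with hd
    have hdD : d ∈ S.D := hmem ((t : S.C)⁻¹ * ⟨v, hv⟩) (by rw [map_mul, map_inv, ht', inv_mul_cancel])
    have ht2 : ((t : S.C) : G) * (t : S.C) = 1 := congrArg Subtype.val
      (hinj _ (mul_mem t.2 t.2) (by rw [map_mul, ← pow_two, himg t t.2]))
    have hd1 : d = 1 := S.eq_one_of_mem_D hdD (by
      have hv' : v = ((t : S.C) : G) * d := by rw [hd, mul_inv_cancel_left]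
      rw [hv', show ((t : S.C) : G) * d * ((t : S.C) * d) = (t : S.C) * (d * (t : S.C)) * d by group,
        S.comm_D (t : S.C).2 hdD] at hv2
      simpa [← mul_assoc, ht2] using hv2)
    exact ⟨t, t.2, inv_mul_eq_one.1 hd1⟩

variable {S} {V : Subgroup G}

omit [Finite G] in
theorem IsKlein.le_C (hV : S.IsKlein V) {v : G} (hv : v ∈ V) : v ∈ S.C := ((hV.mem_iff v).1 hv).1

omit [Finite G] in
theorem IsKlein.sq (hV : S.IsKlein V) {v : G} (hv : v ∈ V) : v * v = 1 := ((hV.mem_iff v).1 hv).2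

omit [Finite G] in
theorem IsKlein.comm (hV : S.IsKlein V) {u v : G} (hu : u ∈ V) (hv : v ∈ V) : u * v = v * u := by
  calc u * v = (v * v) * (u * v) * (u * u) := by rw [hV.sq hv, hV.sq hu]; group
    _ = v * ((v * u) * (v * u)) * u := by group
    _ = v * u := by rw [hV.sq (mul_mem hv hu), mul_one]

theorem IsKlein.conj_mem (hV : S.IsKlein V) {t v : G} (ht : t ∈ S.M) (hv : v ∈ V) :
    t * v * t⁻¹ ∈ V := by
  rw [hV.mem_iff]
  refine ⟨S.conj_mem_C ht (hV.le_C hv), ?_⟩
  calc t * v * t⁻¹ * (t * v * t⁻¹) = t * (v * v) * t⁻¹ := by group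
    _ = 1 := by rw [hV.sq hv]; group

theorem IsKlein.eq_one_of_mem_D (hV : S.IsKlein V) {v : G} (hv : v ∈ V) (hd : v ∈ S.D) : v = 1 :=
  S.eq_one_of_mem_D hd (hV.sq hv)

/-- An element of order three of `C(D)` outside `D` permutes `V#` cyclically. -/
theorem IsKlein.mul_pow_three (hV : S.IsKlein V) {v y : G} (hv : v ∈ V) (hy : y ∈ S.C)
    (hy3 : y ^ 3 = 1) (hyD : y ∉ S.D) : (v * y) ^ 3 = 1 := by
  obtain ⟨φ, hker, hsign⟩ := S.exists_phi
  have hφy : φ ⟨y, hy⟩ ≠ 1 := fun h => hyD (by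
    have : (⟨y, hy⟩ : S.C) ∈ φ.ker := h
    rw [hker] at this
    exact this)
  have h := perm_four_mul_pow (φ ⟨y, hy⟩) (φ ⟨v, hV.le_C hv⟩) (hsign _)
    (by rw [← map_pow, show (⟨y, hy⟩ : S.C) ^ 3 = 1 from Subtype.ext hy3, map_one]) hφy
    (by rw [← map_pow, show (⟨v, hV.le_C hv⟩ : S.C) ^ 2 = 1 from
      Subtype.ext (by rw [pow_two]; exact hV.sq hv), map_one]) (hsign _)
  rw [← map_mul, ← map_pow] at h
  have hD : (v * y) ^ 3 ∈ S.D := by
    have : (⟨v, hV.le_C hv⟩ * ⟨y, hy⟩ : S.C) ^ 3 ∈ φ.ker := h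
    rw [hker] at this
    exact this
  refine hV.eq_one_of_mem_D ?_ hD
  have hyM := S.C_le hy
  have h2 := hV.conj_mem hyM hv
  have e : (v * y) ^ 3 = v * (y * v * y⁻¹) * (y * (y * v * y⁻¹) * y⁻¹) * y ^ 3 := by
    simp only [pow_succ, pow_zero, one_mul]; group
  rw [e, hy3, mul_one]
  exact mul_mem (mul_mem hv h2) (hV.conj_mem hyM h2)

theorem IsKlein.not_comm (hV : S.IsKlein V) {v y : G} (hv : v ∈ V) (hv1 : v ≠ 1) (hy : y ∈ S.C)
    (hy3 : y ^ 3 = 1) (hyD : y ∉ S.D) : y * v ≠ v * y := fun h => by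
  have h3 := hV.mul_pow_three hv hy hy3 hyD
  rw [(show Commute v y from h.symm).mul_pow, hy3, mul_one, pow_succ, pow_two, hV.sq hv, one_mul] at h3
  exact hv1 h3

/-- The centraliser in `C(D)` of an involution of `V` is `D × V`. -/
theorem IsKlein.decomp (hV : S.IsKlein V) {v c : G} (hv : v ∈ V) (hv1 : v ≠ 1) (hc : c ∈ S.C)
    (h : c * v = v * c) : ∃ d ∈ S.D, ∃ u ∈ V, c = d * u := by
  obtain ⟨φ, hker, hsign⟩ := S.exists_phi
  have hφv : φ ⟨v, hV.le_C hv⟩ ≠ 1 := fun h1 => hv1 (hV.eq_one_of_mem_D hv (by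
    have : (⟨v, hV.le_C hv⟩ : S.C) ∈ φ.ker := h1
    rw [hker] at this
    exact this))
  have h2 := perm_four_klein (φ ⟨c, hc⟩) (φ ⟨v, hV.le_C hv⟩) hφv
    (by rw [← map_pow, show (⟨v, hV.le_C hv⟩ : S.C) ^ 2 = 1 from
      Subtype.ext (by rw [pow_two]; exact hV.sq hv), map_one]) (hsign _) (hsign _)
    (by rw [← map_mul, ← map_mul]; exact congrArg φ (Subtype.ext h))
  rw [← map_pow] at h2
  have hD : c ^ 2 ∈ S.D := by
    have : (⟨c, hc⟩ : S.C) ^ 2 ∈ φ.ker := h2
    rw [hker] at this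
    exact this
  have h6 : (c ^ 2) ^ 3 = 1 := S.pow_three_of_mem_D hD
  refine ⟨(c ^ 2) ^ 2, pow_mem hD 2, c ^ 3, (hV.mem_iff _).2 ⟨pow_mem hc 3, ?_⟩, ?_⟩
  · rw [← pow_add, show 3 + 3 = 2 * 3 from rfl, pow_mul, h6]
  · rw [← pow_mul, ← pow_add, show 2 * 2 + 3 = 2 * 3 + 1 from rfl, pow_succ, pow_mul, h6, one_mul]

theorem IsKlein.mem_D_of_three (hV : S.IsKlein V) {v z : G} (hv : v ∈ V) (hv1 : v ≠ 1)
    (hz : z ∈ S.M) (hz3 : z ^ 3 = 1) (h : z * v = v * z) : z ∈ S.D := by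
  have hzC : z ∈ S.C := by
    have h2 := S.sq_mem_C hz
    have : z = z * z * (z * z) := by
      calc z = z ^ 3 * z := by rw [hz3, one_mul]
        _ = z * z * (z * z) := by simp only [pow_succ, pow_zero, one_mul]; group
    rw [this]
    exact mul_mem h2 h2
  obtain ⟨d, hd, u, hu, rfl⟩ := hV.decomp hv hv1 hzC h
  rw [(show Commute d u from S.comm_D (hV.le_C hu) hd).mul_pow, S.pow_three_of_mem_D hd, one_mul,
    pow_succ, pow_two, hV.sq hu, one_mul] at hz3
  rw [hz3, mul_one]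
  exact hd

/-- An element of `C(D)` commuting with an element of `P ∖ D` lies in `P`. -/
theorem IsKlein.mem_P (_hV : S.IsKlein V) {y c : G} (hy : y ∈ (S.P : Subgroup G))
    (hy3 : y ^ 3 = 1) (hyD : y ∉ S.D) (hc : c ∈ S.C) (h : c * y = y * c) :
    c ∈ (S.P : Subgroup G) := by
  obtain ⟨φ, hker, hsign⟩ := S.exists_phi
  have hmem : ∀ t : S.C, φ t = 1 → (t : G) ∈ S.D := fun t ht => by
    have : t ∈ φ.ker := ht
    rwa [hker] at this
  set y' : S.C := ⟨y, S.P_le hy⟩
  have hP : ∀ k : ℕ, φ ⟨c, hc⟩ = φ y' ^ k → c ∈ (S.P : Subgroup G) := by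
    intro k hk
    have hd := hmem ((y' ^ k)⁻¹ * ⟨c, hc⟩) (by rw [map_mul, map_inv, map_pow, hk, inv_mul_cancel])
    have e : c = y ^ k * ((y ^ k)⁻¹ * c) := by rw [mul_inv_cancel_left]
    rw [e]
    exact mul_mem (pow_mem hy k) (S.D_le hd)
  rcases perm_four_three (φ y') (φ ⟨c, hc⟩) (fun h1 => hyD (hmem y' h1))
    (by rw [← map_pow, show y' ^ 3 = 1 from Subtype.ext hy3, map_one]) (hsign _)
    (by rw [← map_mul, ← map_mul]; exact congrArg φ (Subtype.ext h.symm)) with e | e | e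
  · exact hP 0 (by rw [e, pow_zero])
  · exact hP 1 (by rw [e, pow_one])
  · exact hP 2 e

/-- An involution of `N(D)` fixes an involution of `V`. -/
theorem IsKlein.exists_fixed (hV : S.IsKlein V) {a : G} (ha : a ∈ S.M) (ha2 : a * a = 1) :
    ∃ v ∈ V, v ≠ 1 ∧ a * v = v * a := by
  obtain ⟨⟨v, hv⟩, hv1⟩ : ∃ v : V, v ≠ 1 := by
    haveI : Nontrivial V := Finite.one_lt_card_iff_nontrivial.1 (by rw [hV.card]; norm_num)
    exact exists_ne 1
  have hv1' : v ≠ 1 := fun h => hv1 (Subtype.ext h)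
  have hinv : a⁻¹ = a := inv_eq_of_mul_eq_one_left ha2
  set w := a * v * a⁻¹ with hw
  have hwV : w ∈ V := hV.conj_mem ha hv
  by_cases h : w = v
  · exact ⟨v, hv, hv1', mul_inv_eq_iff_eq_mul.1 h⟩
  refine ⟨v * w, mul_mem hv hwV, fun e => h ?_, ?_⟩
  · rw [eq_inv_of_mul_eq_one_right e]
    exact inv_eq_of_mul_eq_one_left (hV.sq hv)
  · calc a * (v * w) = (a * v * a⁻¹) * (a * (a * v * a⁻¹)) := by rw [hw]; group
      _ = w * (v * a) := by
        rw [← hw]
        congr 1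
        rw [hw, hinv, ← mul_assoc, ← mul_assoc, ha2, one_mul]
      _ = v * w * a := by rw [← mul_assoc, hV.comm hwV hv]

/-- An element of `N(D)` outside `C(D)` normalising `P` inverts; so it fixes only one involution. -/
theorem IsKlein.fixed_unique (hV : S.IsKlein V) {i y : G} (hi : i ∈ S.M) (hiC : i ∉ S.C)
    (hy : y ∈ S.C) (hy3 : y ^ 3 = 1) (hyD : y ∉ S.D) (hiy : i * y * i⁻¹ = y⁻¹)
    {a u v : G} (ha : a ∈ S.M) (haC : a ∉ S.C) (hu : u ∈ V) (hu1 : u ≠ 1) (hv : v ∈ V) (hv1 : v ≠ 1)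
    (hau : a * u = u * a) (hav : a * v = v * a) : u = v := by
  by_contra hne
  -- `a` centralises `V`
  have hall : ∀ w ∈ V, a * w = w * a := by
    have hle : Subgroup.closure {u, v} ≤ V := (Subgroup.closure_le V).2 (by
      rintro _ (rfl | rfl) <;> assumption)
    have hcard : 3 ≤ Nat.card (Subgroup.closure {u, v}) := by
      have h := Nat.card_le_card_of_injective
        (fun o : Fin 3 => (![⟨1, one_mem _⟩, ⟨u, Subgroup.subset_closure (Or.inl rfl)⟩,
          ⟨v, Subgroup.subset_closure (Or.inr rfl)⟩] o : Subgroup.closure ({u, v} : Set G))) (by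
          intro k l hkl
          fin_cases k <;> fin_cases l <;> simp_all [Subtype.ext_iff])
      simpa using h
    have heq : Subgroup.closure {u, v} = V := Subgroup.eq_of_le_of_card_ge hle (by
      have h4 := Subgroup.card_dvd_of_le hle
      rw [hV.card] at h4 ⊢
      have := Nat.le_of_dvd (by norm_num) h4
      interval_cases h : Nat.card (Subgroup.closure {u, v}) <;> omega)
    intro w hw
    have hle' : Subgroup.closure {u, v} ≤ Subgroup.centralizer {a} := (Subgroup.closure_le _).2 (by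
      rintro _ (rfl | rfl) <;> rw [SetLike.mem_coe, Subgroup.mem_centralizer_singleton_iff]
      · exact hau.symm
      · exact hav.symm)
    exact (Subgroup.mem_centralizer_singleton_iff.1 (hle' (heq.ge hw))).symm
  -- so `i` acts on `V` as `c := a⁻¹ i ∈ C(D)`
  set c := a⁻¹ * i with hc
  have hcC : c ∈ S.C := (S.mul_mem_C_iff (inv_mem ha) hi).2
    (iff_of_false (fun h => haC (by simpa using inv_mem h)) hiC)
  obtain ⟨φ, hker, hsign⟩ := S.exists_phi
  set k := c * y * c⁻¹ * y⁻¹ with hk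
  have hkC : k ∈ S.C := mul_mem (mul_mem (mul_mem hcC hy) (inv_mem hcC)) (inv_mem hy)
  have hk2 : k ^ 2 ∈ S.D := by
    have h := perm_four_comm (φ ⟨c, hcC⟩) (φ ⟨y, hy⟩) (hsign _) (hsign _)
    rw [← map_inv, ← map_inv, ← map_mul, ← map_mul, ← map_mul, ← map_pow] at h
    have : (⟨c, hcC⟩ * ⟨y, hy⟩ * (⟨c, hcC⟩ : S.C)⁻¹ * (⟨y, hy⟩ : S.C)⁻¹) ^ 2 ∈ φ.ker := h
    rw [hker] at this
    exact this
  -- hence `k` centralises `V`
  have hk3V : k ^ 3 ∈ V := (hV.mem_iff _).2 ⟨pow_mem hkC 3, by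
    rw [← pow_add, show 3 + 3 = 2 * 3 from rfl, pow_mul, S.pow_three_of_mem_D hk2]⟩
  have hkcomm : ∀ w ∈ V, k * w = w * k := by
    intro w hw
    have e : k = (k ^ 2) ^ 2 * k ^ 3 := by
      rw [← pow_mul, ← pow_add, show 2 * 2 + 3 = 2 * 3 + 1 from rfl, pow_succ, pow_mul,
        S.pow_three_of_mem_D hk2, one_mul]
    rw [e, mul_assoc, hV.comm hk3V hw, ← mul_assoc, S.comm_D (hV.le_C hw) (pow_mem hk2 2), mul_assoc]
  -- `y⁻¹ = a k y a⁻¹` acts on `V` as `y`
  have hyinv : y⁻¹ = a * (k * y) * a⁻¹ := by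
    rw [← hiy, hk, hc]; group
  obtain ⟨w, hw, hw1⟩ : ∃ w ∈ V, w ≠ 1 := ⟨u, hu, hu1⟩
  refine hV.not_comm hw hw1 hy hy3 hyD ?_
  have hyM := S.C_le hy
  set w' := y * w * y⁻¹ with hw'
  have hw'V : w' ∈ V := hV.conj_mem hyM hw
  have hcai : a⁻¹ * w * a = w := by rw [mul_assoc, ← hall w hw, inv_mul_cancel_left]
  have e : y⁻¹ * w * y = w' := by
    calc y⁻¹ * w * y = y⁻¹ * w * (y⁻¹)⁻¹ := by group
      _ = a * (k * y) * a⁻¹ * w * (a * (k * y) * a⁻¹)⁻¹ := by rw [← hyinv]
      _ = a * (k * (y * (a⁻¹ * w * a) * y⁻¹) * k⁻¹) * a⁻¹ := by group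
      _ = a * (k * w' * k⁻¹) * a⁻¹ := by rw [hcai]
      _ = w' := by rw [hkcomm w' hw'V, mul_inv_cancel_right, hall w' hw'V, mul_inv_cancel_right]
  -- so `y ^ 2` centralises `w`
  have h2 : y ^ 2 * w = w * y ^ 2 := by
    calc y ^ 2 * w = y * (y * w * y⁻¹) * y := by rw [pow_two]; group
      _ = y * w' * y := by rw [hw']
      _ = y * (y⁻¹ * w * y) * y := by rw [e]
      _ = w * y ^ 2 := by rw [pow_two]; group
  have h4 : y = y ^ 2 * y ^ 2 := by
    rw [← pow_add, show 2 + 2 = 3 + 1 from rfl, pow_succ, hy3, one_mul]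
  rw [h4]
  calc y ^ 2 * y ^ 2 * w = y ^ 2 * (w * y ^ 2) := by rw [mul_assoc, h2]
    _ = w * (y ^ 2 * y ^ 2) := by rw [← mul_assoc, h2, mul_assoc]

variable [IsSimpleGroup G]

/-- Centralisers of the involutions of `V` lie in `N(D)`. -/
theorem IsKlein.centralizer_le (hV : S.IsKlein V) (hG : ¬ IsMulCommutative G)
    (hN : Nat.card G = 2520) {v : G} (hv : v ∈ V) (hv1 : v ≠ 1) :
    Subgroup.centralizer ({v} : Set G) ≤ S.M := by
  classical
  set K := Subgroup.centralizer ({v} : Set G) with hK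
  haveI : Fact (Nat.Prime 3) := ⟨Nat.prime_three⟩
  haveI : Fact (Nat.Prime 7) := ⟨by norm_num⟩
  -- `|M ∩ K| = 24`
  set KM := S.M ⊓ K with hKM
  have hDK : S.D ≤ KM := le_inf (S.D_le_C.trans S.C_le) fun d hd =>
    Subgroup.mem_centralizer_singleton_iff.2 (S.comm_D (hV.le_C hv) hd)
  have hCK : Nat.card (S.C ⊓ K : Subgroup G) ≤ 12 := by
    have h := Nat.card_le_card_of_surjective
      (fun p : S.D × V => (⟨(p.1 : G) * p.2, ⟨mul_mem (S.D_le_C p.1.2) (hV.le_C p.2.2), by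
        refine Subgroup.mem_centralizer_singleton_iff.2 ?_
        rw [mul_assoc, hV.comm p.2.2 hv,
          ← mul_assoc, S.comm_D (hV.le_C hv) p.1.2, mul_assoc]⟩⟩ : (S.C ⊓ K : Subgroup G))) (by
      rintro ⟨c, hcC, hcK⟩
      obtain ⟨d, hd, u, hu, rfl⟩ := hV.decomp hv hv1 hcC (Subgroup.mem_centralizer_singleton_iff.1 hcK)
      exact ⟨(⟨d, hd⟩, ⟨u, hu⟩), rfl⟩)
    simpa [Nat.card_prod, S.card_D, hV.card] using h
  have h24 : Nat.card KM = 24 := by
    -- the orbit of `v` has at most three elements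
    have hle : Nat.card S.M ≤ 3 * Nat.card KM := by
      have h := Nat.card_le_card_of_injective
        (fun q : S.M ⧸ (KM.subgroupOf S.M) =>
          (⟨q.out * v * (q.out : G)⁻¹, hV.conj_mem q.out.2 hv, fun e => hv1 (by
            rwa [mul_inv_eq_one, mul_eq_left] at e)⟩ : {u : G // u ∈ V ∧ u ≠ 1})) (by
        intro q r h
        have h' : (q.out : G) * v * (q.out : G)⁻¹ = r.out * v * (r.out : G)⁻¹ :=
          congrArg Subtype.val h
        rw [← q.out_eq, ← r.out_eq]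
        refine QuotientGroup.eq.2 (Subgroup.mem_inf.2 ⟨(q.out⁻¹ * r.out).2, ?_⟩)
        rw [hK, Subgroup.mem_centralizer_singleton_iff]
        show ((q.out : G)⁻¹ * r.out) * v = v * ((q.out : G)⁻¹ * r.out)
        calc ((q.out : G)⁻¹ * r.out) * v
            = (q.out : G)⁻¹ * (r.out * v * (r.out : G)⁻¹) * r.out := by group
          _ = v * ((q.out : G)⁻¹ * r.out) := by rw [← h']; group)
      have h3 : Nat.card {u : G // u ∈ V ∧ u ≠ 1} ≤ 3 := by
        have h4 : Nat.card {u : G // u ∈ V ∧ u ≠ 1} + 1 = Nat.card V := by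
          rw [← Finite.card_option]
          refine Nat.card_congr ((Equiv.optionCongr ?_).trans (Equiv.optionSubtypeNe (1 : V)))
          exact
            { toFun := fun u => ⟨⟨u.1, u.2.1⟩, fun e => u.2.2 (congrArg Subtype.val e)⟩
              invFun := fun u => ⟨u.1.1, u.1.2, fun e => u.2 (Subtype.ext e)⟩
              left_inv := fun _ => rfl
              right_inv := fun _ => rfl }
        rw [hV.card] at h4
        omega
      rw [← Subgroup.index_eq_card] at h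
      rw [← (KM.subgroupOf S.M).card_mul_index,
        Nat.card_congr (Subgroup.subgroupOfEquivOfLe inf_le_left).toEquiv, mul_comm 3]
      exact Nat.mul_le_mul_left _ (h.trans h3)
    rw [S.card_M] at hle
    have hge : Nat.card KM ≤ 2 * Nat.card (S.C ⊓ K : Subgroup G) := by
      haveI : (S.C.subgroupOf S.M).Normal := Subgroup.normal_of_index_eq_two S.index_C
      have h := Subgroup.relIndex_dvd_index_of_normal (S.C.subgroupOf S.M) (KM.subgroupOf S.M)
      rw [Subgroup.relIndex_subgroupOf inf_le_left, S.index_C] at h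
      rw [← (S.C.subgroupOf KM).card_mul_index, mul_comm 2]
      refine Nat.mul_le_mul ?_ (Nat.le_of_dvd two_pos h)
      rw [← Subgroup.card_map_of_injective (f := KM.subtype) KM.subtype_injective,
        Subgroup.subgroupOf_map_subtype]
      exact Subgroup.card_le_of_le (le_inf inf_le_left (inf_le_right.trans inf_le_right))
    have hKM24 : 24 ≤ Nat.card KM := by omega
    have hle24 : Nat.card KM ≤ 24 := by omega
    omega
  have hC12 : Nat.card (S.C ⊓ K : Subgroup G) ∣ 36 := S.card_C ▸ Subgroup.card_dvd_of_le inf_le_left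
  obtain ⟨k, hk⟩ : 24 ∣ Nat.card K := h24 ▸ Subgroup.card_dvd_of_le inf_le_right
  have hk105 : k ∣ 105 := by
    have h := Subgroup.card_subgroup_dvd_card K
    rw [hk, hN] at h
    exact (Nat.mul_dvd_mul_iff_left (by norm_num : 0 < 24)).1 h
  have hDK' : S.D ≤ K := hDK.trans inf_le_right
  have h3k : ¬ 3 ∣ k := by
    intro h3
    have hD' : Nat.card (S.D.subgroupOf K) = 3 ^ 1 := by
      rw [Nat.card_congr (Subgroup.subgroupOfEquivOfLe hDK').toEquiv, S.card_D, pow_one]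
    obtain ⟨Q, hQ, hDQ⟩ := Sylow.exists_subgroup_card_pow_prime_le 3 (n := 1) (m := 2)
      (show 3 ^ 2 ∣ Nat.card K by rw [hk]; omega) (S.D.subgroupOf K) hD' one_le_two
    have hQ9 : Nat.card (Q.map K.subtype) = 3 ^ 2 := by
      rw [Subgroup.card_map_of_injective K.subtype_injective, hQ]
    have hxQ : S.x ∈ Q.map K.subtype := ⟨⟨S.x, hDK' S.x_mem⟩, hDQ S.x_mem, rfl⟩
    have hle : Q.map K.subtype ≤ S.C ⊓ K := le_inf (fun g hg => S.mem_C_iff.2
      (Subgroup.mem_centralizer_singleton_iff.1 (le_centralizer_of_card_sq hQ9 hxQ hg)))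
      (Subgroup.map_subtype_le Q)
    have h9 := Subgroup.card_dvd_of_le hle
    rw [hQ9] at h9
    -- `|C ∩ K| ≤ 12`
    have h12 : Nat.card (S.C ⊓ K : Subgroup G) = 9 := by
      obtain ⟨j, hj⟩ := h9
      have : 0 < Nat.card (S.C ⊓ K : Subgroup G) := Nat.card_pos
      omega
    have hV' : V ≤ S.C ⊓ K := le_inf (fun u hu => hV.le_C hu) fun u hu => by
      rw [hK, Subgroup.mem_centralizer_singleton_iff]
      exact hV.comm hu hv
    have h4 := Subgroup.card_dvd_of_le hV'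
    rw [h12, hV.card] at h4
    norm_num at h4
  have h7k : ¬ 7 ∣ k := fun h7 => by
    obtain ⟨⟨a, haK⟩, ha⟩ := exists_prime_orderOf_dvd_card' (G := K) 7 (by rw [hk]; omega)
    rw [← Subgroup.orderOf_coe] at ha
    refine false_of_seven hG hN ha (z := v) (Or.inl ?_) ?_
    · exact orderOf_eq_prime (by rw [pow_two]; exact hV.sq hv) hv1
    · exact (Subgroup.mem_centralizer_singleton_iff.1 haK).symm
  have hk15 : k = 1 ∨ k = 5 := by
    have hk5 : k ∣ 5 := by
      have h1 : Nat.Coprime k (3 * 7) := Nat.Coprime.mul_right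
        ((Nat.Prime.coprime_iff_not_dvd (by norm_num)).2 h3k).symm
        ((Nat.Prime.coprime_iff_not_dvd (by norm_num)).2 h7k).symm
      exact h1.dvd_of_dvd_mul_right (show k ∣ 5 * (3 * 7) from hk105)
    exact (Nat.dvd_prime (by norm_num)).1 hk5
  rcases hk15 with rfl | rfl
  · rw [← Subgroup.eq_of_le_of_card_ge (inf_le_right : KM ≤ K) (by rw [h24, hk])]
    exact inf_le_left
  · exfalso
    have hc : Nat.card K = 3 ^ 1 * 40 := hk
    obtain ⟨Q, hQ⟩ := (IsPGroup.of_card (n := 1) (show Nat.card (S.D.subgroupOf K) = 3 ^ 1 by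
      rw [Nat.card_congr (Subgroup.subgroupOfEquivOfLe hDK').toEquiv, S.card_D, pow_one])).exists_le_sylow
    have hQD : (Q : Subgroup K) = S.D.subgroupOf K := (Subgroup.eq_of_le_of_card_ge hQ (by
      rw [card_sylow_eq hc (by norm_num) Q,
        Nat.card_congr (Subgroup.subgroupOfEquivOfLe hDK').toEquiv, S.card_D, pow_one])).symm
    have h := card_sylow_mul_card_normalizer Q
    rw [hQD, ← Subgroup.subgroupOf_normalizer_eq hDK', hk] at h
    have e : Nat.card (S.M.subgroupOf K) = 24 := by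
      rw [← h24, ← Subgroup.card_map_of_injective (f := K.subtype) K.subtype_injective,
        Subgroup.subgroupOf_map_subtype]
    rw [e] at h
    have := card_sylow_mod (G := K) 3
    omega

end Setup

end CfsgLib.Classification.AltSevenOrder
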