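import Cfsg.Agent.Classification.SmallOrders.Kit
import Cfsg.Agent.Classification.SmallOrders.Tools
import Cfsg.Agent.Small.ThompsonTransfer
import Cfsg.Agent.Derangement.Subgroup

/-!
# Elements of order five and seven in a simple group of order 2520

No element of order 3 commutes with one of order 5, and no element of order 2 or 3 with one of
order 7.
-/

set_option autoImplicit false
set_option linter.style.haveILetI false

namespace CfsgLib.Classification.AltSevenOrder

open CfsgLib.Small CfsgLib.Classification.SmallOrders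

variable {G : Type*} [Group G] [Finite G]

/-- The Sylow subgroup of prime order generated by an element. -/
theorem exists_sylow_of_orderOf {p m : ℕ} [Fact p.Prime] (hN : Nat.card G = p ^ 1 * m)
    (hm : ¬ p ∣ m) {a : G} (ha : orderOf a = p) :
    ∃ P : Sylow p G, Nat.card (P : Subgroup G) = p ∧ (P : Subgroup G) = Subgroup.zpowers a := by
  obtain ⟨P, hP⟩ := (IsPGroup.of_card (n := 1) (by rw [Nat.card_zpowers, ha, pow_one]) :
    IsPGroup p (Subgroup.zpowers a)).exists_le_sylow
  have hc : Nat.card (P : Subgroup G) = p := by simpa using card_sylow_eq hN hm P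
  exact ⟨P, hc, (Subgroup.eq_of_le_of_card_ge hP (by rw [hc, Nat.card_zpowers, ha])).symm⟩

omit [Finite G] in
theorem mem_centralizer_of_commute {P : Subgroup G} {a z : G} (hP : P = Subgroup.zpowers a)
    (h : Commute z a) : z ∈ Subgroup.centralizer (P : Set G) := by
  rw [hP, Subgroup.mem_centralizer_iff]
  rintro _ ⟨i, rfl⟩
  exact (h.zpow_right i).eq.symm

omit [Finite G] in
/-- The number of points moved is invariant under conjugation. -/
theorem card_moved_conj {α : Type*} [MulAction G α] (g u : G) :
    Nat.card {x : α // (g⁻¹ * u * g) • x ≠ x} = Nat.card {x : α // u • x ≠ x} :=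
  Nat.card_congr ((MulAction.toPerm g).subtypeEquiv fun x => by
    show (g⁻¹ * u * g) • x ≠ x ↔ u • (g • x) ≠ g • x
    rw [mul_smul, mul_smul, ne_eq, inv_smul_eq_iff])

variable [IsSimpleGroup G]

/-- No element of order 2 or 3 centralises an element of order 7. -/
theorem false_of_seven (hG : ¬ IsMulCommutative G) (hN : Nat.card G = 2520) {a z : G}
    (ha : orderOf a = 7) (hz : orderOf z = 2 ∨ orderOf z = 3) (hc : Commute z a) : False := by
  haveI : Fact (Nat.Prime 7) := ⟨by norm_num⟩
  have hN' : Nat.card G = 7 ^ 1 * 360 := hN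
  have hp : 7 ∣ Nat.card G := by rw [hN]; norm_num
  obtain ⟨P, hP, hPa⟩ := exists_sylow_of_orderOf hN' (by norm_num) ha
  have hzC := mem_centralizer_of_commute hPa hc
  have hdvd := Subgroup.orderOf_dvd_natCard _ hzC
  have hmem := card_sylow_mem hG hN' one_ne_zero (by norm_num)
  rw [show (Nat.divisors 360).filter (fun d => d % 7 = 1 ∧ d ≠ 1) = {8, 15, 36, 120}
    by decide +kernel] at hmem
  simp only [Finset.mem_insert, Finset.mem_singleton] at hmem
  obtain ⟨r, c, hr, hr1, hNc, hCc⟩ := exists_relIndex hG P hP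
  have hmul := card_sylow_mul_card_normalizer P
  rw [hN, hNc] at hmul
  rw [hCc] at hdvd
  have hr' := Nat.le_of_dvd (by norm_num) hr
  rcases hmem with hn | hn | hn | hn
  · have h1 := centralizer_eq_of_card_succ hG hp P hP hn
    rw [h1, hP] at hCc
    rcases hz with h | h <;> rw [h, ← hCc] at hdvd <;> omega
  · refine two_not_dvd_card_centralizer hG hp P hP (by norm_num) (by omega) ?_
    rw [hCc]
    rw [hn] at hmul
    have : r ∣ 6 := hr
    interval_cases r <;> omega
  · rw [hn] at hmul
    have hc5 : c = 5 := by interval_cases r <;> omega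
    rw [hc5] at hdvd
    rcases hz with h | h <;> rw [h] at hdvd <;> omega
  · rw [hn] at hmul
    have hc1 : c = 1 := by interval_cases r <;> omega
    rw [hc1] at hdvd
    rcases hz with h | h <;> rw [h] at hdvd <;> omega

/-- No element of order 3 centralises an element of order 5. -/
theorem false_of_three_five (hG : ¬ IsMulCommutative G) (hN : Nat.card G = 2520) {a w : G}
    (ha : orderOf a = 5) (hw : orderOf w = 3) (hc : Commute w a) : False := by
  classical
  haveI : Fact (Nat.Prime 5) := ⟨by norm_num⟩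
  haveI : Fact (Nat.Prime 3) := ⟨by norm_num⟩
  haveI : Fact (Nat.Prime 2) := ⟨Nat.prime_two⟩
  have hN' : Nat.card G = 5 ^ 1 * 504 := hN
  have hp : 5 ∣ Nat.card G := by rw [hN]; norm_num
  obtain ⟨P, hP, hPa⟩ := exists_sylow_of_orderOf hN' (by norm_num) ha
  set C := Subgroup.centralizer ((P : Subgroup G) : Set G) with hCdef
  set N := Subgroup.normalizer ((P : Subgroup G) : Set G) with hNdef
  have hwC : w ∈ C := mem_centralizer_of_commute hPa hc
  have h3C := Subgroup.orderOf_dvd_natCard C hwC
  have hmem := card_sylow_mem hG hN' one_ne_zero (by norm_num)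
  rw [show (Nat.divisors 504).filter (fun d => d % 5 = 1 ∧ d ≠ 1) = {6, 21, 36, 56, 126}
    by decide +kernel] at hmem
  simp only [Finset.mem_insert, Finset.mem_singleton] at hmem
  obtain ⟨r, c, hr, hr1, hNc, hCc⟩ := exists_relIndex hG P hP
  have hmul := card_sylow_mul_card_normalizer P
  rw [hN, hNc] at hmul
  rw [hCc, hw] at h3C
  have hr' := Nat.le_of_dvd (by norm_num) hr
  rcases hmem with hn | hn | hn | hn | hn
  · have h := two_mul_card_dvd_factorial_sylow hG (p := 5) hp
    rw [hn, hN] at h
    norm_num [Nat.factorial] at h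
  rotate_left
  all_goals rw [hn] at hmul
  all_goals first
    | (have : r ∣ 4 := hr; interval_cases r <;> omega)
    | skip
  -- twenty-one Sylow subgroups
  have hX : ∀ g : G, g ∈ C → orderOf g = 2 → Nat.card {Q : Sylow 5 G // g • Q ≠ Q} = 20 := by
    intro g hg ho
    have h4 := four_dvd_moved hG (α := Sylow 5 G) (g := g) (orderOf_eq_two_iff_sq.1 ho).2
    have h5 := dvd_moved P hP hg
    have hlt := moved_lt P (Sylow.smul_eq_iff_mem_normalizer.2 (Subgroup.centralizer_le_normalizer _ hg))
    have h0 : Nat.card {Q : Sylow 5 G // g • Q ≠ Q} ≠ 0 := fun h0 => by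
      refine ne_one_of_orderOf_two ho (sylow_action_faithful hG hp fun Q => ?_)
      by_contra hQ
      haveI : Nonempty {Q : Sylow 5 G // g • Q ≠ Q} := ⟨⟨Q, hQ⟩⟩
      exact Nat.card_pos.ne' h0
    omega
  have hfix : ∀ g : G, Nat.card {Q : Sylow 5 G // g • Q ≠ Q} = 20 → ∀ Q R : Sylow 5 G,
      g • Q = Q → g • R = R → Q = R := by
    intro g hg Q R hQ hR
    have hsum : Nat.card {Q : Sylow 5 G // g • Q = Q}
        + Nat.card {Q : Sylow 5 G // g • Q ≠ Q} = Nat.card (Sylow 5 G) := by
      rw [← Nat.card_sum]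
      exact Nat.card_congr (Equiv.sumCompl _)
    rw [hg, hn] at hsum
    have h1 : Nat.card {Q : Sylow 5 G // g • Q = Q} = 1 := by omega
    haveI := (Nat.card_eq_one_iff_unique.1 h1).1
    exact congrArg Subtype.val (Subsingleton.elim (⟨Q, hQ⟩ : {Q : Sylow 5 G // g • Q = Q}) ⟨R, hR⟩)
  have hr24 : (r = 4 ∧ c = 6) ∨ (r = 2 ∧ c = 12) := by
    have : r ∣ 4 := hr
    interval_cases r <;> omega
  rcases hr24 with ⟨rfl, rfl⟩ | ⟨rfl, rfl⟩
  · -- `|C| = 30`: the five further fixed points of `w` are permuted freely by an involution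
    obtain ⟨⟨u, huC⟩, hu⟩ := exists_prime_orderOf_dvd_card' (G := C) 2 (by rw [hCc]; norm_num)
    rw [← Subgroup.orderOf_coe] at hu
    change orderOf u = 2 at hu
    obtain ⟨W, hW⟩ := (IsPGroup.of_card (n := 1) (by
        rw [Nat.card_zpowers, ← Subgroup.orderOf_coe, hw, pow_one]) :
      IsPGroup 3 (Subgroup.zpowers (⟨w, hwC⟩ : C))).exists_le_sylow
    have hWc : Nat.card (W : Subgroup C) = 3 ^ 1 := card_sylow_eq (m := 10) hCc (by norm_num) W
    have hWw : (W : Subgroup C) = Subgroup.zpowers (⟨w, hwC⟩ : C) :=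
      (Subgroup.eq_of_le_of_card_ge hW (by
        rw [hWc, Nat.card_zpowers, ← Subgroup.orderOf_coe, hw, pow_one])).symm
    have hW1 : Nat.card (Sylow 3 C) = 1 := by
      have h1 := card_sylow_mod (G := C) 3
      have h2 := card_sylow_mul_card_normalizer W
      rw [hCc] at h2
      have h5 : 5 ∣ Nat.card (Subgroup.normalizer ((W : Subgroup C) : Set C)) := by
        have haC : a ∈ C := mem_centralizer_of_commute hPa (Commute.refl a)
        have hmemN : (⟨a, haC⟩ : C) ∈ Subgroup.normalizer ((W : Subgroup C) : Set C) := by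
          refine Subgroup.centralizer_le_normalizer _ (Subgroup.mem_centralizer_iff.2 ?_)
          rw [hWw]
          rintro _ ⟨i, rfl⟩
          exact ((show Commute (⟨w, hwC⟩ : C) ⟨a, haC⟩ from Subtype.ext hc.eq).zpow_left i).eq
        have := Subgroup.orderOf_dvd_natCard _ hmemN
        rwa [← Subgroup.orderOf_coe, ha] at this
      obtain ⟨j, hj⟩ := h5
      rw [hj] at h2
      have h6 : Nat.card (Sylow 3 C) * j = 6 := by
        have : 5 * (Nat.card (Sylow 3 C) * j) = 5 * 6 := by rw [← h2]; ring
        omega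
      have h7 : Nat.card (Sylow 3 C) ∣ 6 := ⟨j, h6.symm⟩
      have := Nat.le_of_dvd (by norm_num) h7
      interval_cases h : Nat.card (Sylow 3 C) <;> omega
    haveI : Subsingleton (Sylow 3 C) := (Nat.card_eq_one_iff_unique.1 hW1).1
    have hnorm := W.normal_of_subsingleton
    set F := {Q : Sylow 5 G // w • Q = Q ∧ Q ≠ P}
    have huP : u • P = P :=
      Sylow.smul_eq_iff_mem_normalizer.2 (Subgroup.centralizer_le_normalizer _ huC)
    have hwP : w • P = P :=
      Sylow.smul_eq_iff_mem_normalizer.2 (Subgroup.centralizer_le_normalizer _ hwC)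
    have hwu : u⁻¹ * w * u ∈ Subgroup.zpowers w := by
      have h := hnorm.conj_mem _ (hWw.symm ▸ Subgroup.mem_zpowers (⟨w, hwC⟩ : C)) (⟨u, huC⟩ : C)⁻¹
      rw [hWw, inv_inv] at h
      obtain ⟨i, hi⟩ := h
      exact ⟨i, congrArg Subtype.val hi⟩
    have hFcard : Nat.card F = 5 := by
      have h5 := dvd_moved P hP hwC
      have hlt := moved_lt P hwP
      have h0 : Nat.card {Q : Sylow 5 G // w • Q ≠ Q} ≠ 0 := fun h0 => by
        have hw1 : w = 1 := sylow_action_faithful hG hp fun Q => by
          by_contra hQ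
          haveI : Nonempty {Q : Sylow 5 G // w • Q ≠ Q} := ⟨⟨Q, hQ⟩⟩
          exact Nat.card_pos.ne' h0
        rw [hw1, orderOf_one] at hw
        omega
      have h3 : 3 ∣ Nat.card {Q : Sylow 5 G // w • Q ≠ Q} := by
        have hz : IsPGroup 3 (Subgroup.zpowers w) :=
          IsPGroup.of_card (n := 1) (by rw [Nat.card_zpowers, hw, pow_one])
        have hmod := hz.card_modEq_card_fixedPoints (Sylow 5 G)
        have he : Nat.card (MulAction.fixedPoints (Subgroup.zpowers w) (Sylow 5 G))
            = Nat.card {Q : Sylow 5 G // w • Q = Q} :=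
          Nat.card_congr (Equiv.subtypeEquivRight fun Q => ⟨fun h => h ⟨w, Subgroup.mem_zpowers w⟩,
            fun h => fun ⟨g, hg⟩ => by
              show g • Q = Q
              exact (Subgroup.zpowers_le.2 (show w ∈ MulAction.stabilizer G Q from h)) hg⟩)
        have hsum : Nat.card {Q : Sylow 5 G // w • Q = Q}
            + Nat.card {Q : Sylow 5 G // w • Q ≠ Q} = Nat.card (Sylow 5 G) := by
          rw [← Nat.card_sum]
          exact Nat.card_congr (Equiv.sumCompl _)
        rw [he, hn] at hmod
        rw [hn] at hsum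
        unfold Nat.ModEq at hmod
        omega
      have hsum : Nat.card F + 1 + Nat.card {Q : Sylow 5 G // w • Q ≠ Q} = 21 := by
        have e1 : Nat.card F + 1 = Nat.card {Q : Sylow 5 G // w • Q = Q} := by
          rw [← Finite.card_option]
          refine Nat.card_congr ((Equiv.optionCongr ?_).trans
            (Equiv.optionSubtypeNe (⟨P, hwP⟩ : {Q : Sylow 5 G // w • Q = Q})))
          exact
            { toFun := fun Q => ⟨⟨Q.1, Q.2.1⟩, fun h => Q.2.2 (congrArg Subtype.val h)⟩
              invFun := fun Q => ⟨Q.1.1, Q.1.2, fun h => Q.2 (Subtype.ext h)⟩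
              left_inv := fun _ => rfl
              right_inv := fun _ => rfl }
        rw [e1, ← Nat.card_sum, Nat.card_congr (Equiv.sumCompl _), hn]
      omega
    let e : Equiv.Perm F :=
      { toFun := fun Q => ⟨u • Q.1, by
          obtain ⟨i, hi⟩ := hwu
          have hi : w ^ i = u⁻¹ * w * u := hi
          have hfix' : w ^ i • Q.1 = Q.1 :=
            (Subgroup.zpowers_le.2 (show w ∈ MulAction.stabilizer G Q.1 from Q.2.1)) ⟨i, rfl⟩
          rw [hi, mul_smul, mul_smul, inv_smul_eq_iff] at hfix'
          exact ⟨hfix', fun h => Q.2.2 (smul_left_cancel u (h.trans huP.symm))⟩⟩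
        invFun := fun Q => ⟨u⁻¹ • Q.1, by
          obtain ⟨i, hi⟩ := hwu
          have hi : w ^ i = u⁻¹ * w * u := hi
          have hfix' : w ^ i • Q.1 = Q.1 :=
            (Subgroup.zpowers_le.2 (show w ∈ MulAction.stabilizer G Q.1 from Q.2.1)) ⟨i, rfl⟩
          have hui : u⁻¹ = u := inv_eq_of_mul_eq_one_left (orderOf_eq_two_iff_sq.1 hu).2
          rw [hi, mul_smul, mul_smul, inv_smul_eq_iff] at hfix'
          exact ⟨by rw [hui]; exact hfix',
            fun h => Q.2.2 (smul_left_cancel u⁻¹ (h.trans (inv_smul_eq_iff.2 huP.symm).symm))⟩⟩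
        left_inv := fun Q => Subtype.ext (inv_smul_smul u Q.1)
        right_inv := fun Q => Subtype.ext (smul_inv_smul u Q.1) }
    have he2 : e ^ 2 = 1 := by
      refine Equiv.ext fun Q => Subtype.ext ?_
      show u • u • Q.1 = Q.1
      rw [smul_smul, (orderOf_eq_two_iff_sq.1 hu).2, one_smul]
    haveI : Fintype F := Fintype.ofFinite F
    have hmod := Equiv.Perm.card_compl_support_modEq (p := 2) (n := 1) (σ := e) (by simpa using he2)
    have hall : e.supportᶜ = ∅ := by
      refine Finset.eq_empty_of_forall_notMem fun Q hQ => ?_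
      rw [Finset.mem_compl, Equiv.Perm.notMem_support] at hQ
      exact Q.2.2 (hfix u (hX u huC hu) Q.1 P (congrArg Subtype.val hQ) huP)
    rw [hall, Finset.card_empty, ← Nat.card_eq_fintype_card, hFcard] at hmod
    exact absurd hmod (by decide)
  · -- `|C| = 60`: every involution fixes one point, so a Sylow 2-subgroup of `N` is semiregular
    have hNc' : Nat.card N = 2 ^ 3 * 15 := hNc
    obtain ⟨T⟩ : Nonempty (Sylow 2 N) := inferInstance
    have hT : Nat.card ((T : Subgroup N).map N.subtype) = 2 ^ 3 := by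
      rw [Subgroup.card_map_of_injective N.subtype_injective, card_sylow_eq hNc' (by norm_num) T]
    obtain ⟨S, hTS⟩ := (IsPGroup.of_card hT).exists_le_sylow
    have hS8 : Nat.card (S : Subgroup G) = 2 ^ 3 :=
      card_sylow_eq (show Nat.card G = 2 ^ 3 * 315 from hN) (by norm_num) S
    have hSN : (S : Subgroup G) ≤ N :=
      (Subgroup.eq_of_le_of_card_ge hTS (by rw [hT, hS8])).symm.trans_le (Subgroup.map_subtype_le _)
    have hM : ((S : Subgroup G) ⊓ C).relIndex (S : Subgroup G) = 2 := by
      rw [inf_comm, Subgroup.inf_relIndex_right]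
      haveI : (C.subgroupOf N).Normal :=
        (Subgroup.normalizerMonoidHom_ker (P : Subgroup G)) ▸ MonoidHom.normal_ker _
      have h := Subgroup.relIndex_dvd_index_of_normal (C.subgroupOf N) ((S : Subgroup G).subgroupOf N)
      rw [Subgroup.relIndex_subgroupOf hSN] at h
      have hidx := (C.subgroupOf N).card_mul_index
      rw [Nat.card_congr (Subgroup.subgroupOfEquivOfLe (Subgroup.centralizer_le_normalizer _)).toEquiv,
        hCc, hNc] at hidx
      have h2 : (C.subgroupOf N).index = 2 := by omega
      rw [h2] at h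
      rcases (Nat.dvd_prime Nat.prime_two).1 h with h1 | h1
      · have h8 := Subgroup.card_dvd_of_le (Subgroup.relIndex_eq_one.1 h1)
        rw [hS8, hCc] at h8
        norm_num at h8
      · exact h1
    have hno : ∀ H : Subgroup G, H.index ≠ 2 := fun H hH => by
      have := two_lt_index hG H (fun e => by rw [e, Subgroup.index_top] at hH; omega)
      omega
    have hinv : ∀ g : G, orderOf g = 2 → Nat.card {Q : Sylow 5 G // g • Q ≠ Q} = 20 := by
      intro g hg
      obtain ⟨h, hh⟩ := thompson_transfer_sylow hno S _ inf_le_left hM hg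
      rw [← card_moved_conj h g]
      refine hX _ hh.2 ?_
      rw [show h⁻¹ * g * h = MulAut.conj h⁻¹ g by simp, MulEquiv.orderOf_eq, hg]
    have hSP : ∀ g ∈ (S : Subgroup G), g • P = P := fun g hg =>
      Sylow.smul_eq_iff_mem_normalizer.2 (hSN hg)
    let X : SubMulAction (S : Subgroup G) (Sylow 5 G) :=
      { carrier := {Q | Q ≠ P}
        smul_mem' := fun g Q hQ h => hQ (smul_left_cancel (g : G)
          (show (g : G) • Q = (g : G) • P by rw [hSP g g.2]; exact h)) }
    have h8 : 8 ∣ Nat.card X := by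
      refine CfsgLib.Derangement.dvd_card_of_dvd_orbit (M := (S : Subgroup G)) fun ⟨Q, hQ⟩ => ?_
      rw [Nat.card_coe_set_eq, ← MulAction.index_stabilizer]
      have hbot : MulAction.stabilizer (S : Subgroup G) (⟨Q, hQ⟩ : X) = ⊥ := by
        by_contra hne
        obtain ⟨g, hgs, hg2⟩ : ∃ g ∈ MulAction.stabilizer (S : Subgroup G) (⟨Q, hQ⟩ : X),
            orderOf g = 2 := by
          obtain ⟨k, hk⟩ := (S.isPGroup'.to_subgroup
            (MulAction.stabilizer (S : Subgroup G) (⟨Q, hQ⟩ : X))).exists_card_eq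
          have hk0 : k ≠ 0 := fun h0 => hne (Subgroup.eq_bot_of_card_eq _ (by rw [hk, h0, pow_zero]))
          obtain ⟨g, hg⟩ := exists_prime_orderOf_dvd_card'
            (G := MulAction.stabilizer (S : Subgroup G) (⟨Q, hQ⟩ : X)) 2 (by
              rw [hk]; exact dvd_pow_self 2 hk0)
          exact ⟨g, g.2, by rwa [Subgroup.orderOf_coe]⟩
        have h' : (g : G) • Q = Q := congrArg Subtype.val hgs
        exact hQ (hfix g (hinv g (by rwa [Subgroup.orderOf_coe])) Q P h' (hSP g g.2))
      rw [hbot, Subgroup.index_bot, hS8]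
      norm_num
    have hXc : Nat.card X + 1 = 21 := by
      rw [← hn, ← Finite.card_option]
      exact Nat.card_congr (Equiv.optionSubtypeNe P)
    omega

end CfsgLib.Classification.AltSevenOrder
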