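import Mathlib.GroupTheory.SpecificGroups.Alternating
import Mathlib.Data.Fintype.Perm
import Cfsg.Agent.Classification.AltSevenOrder.PrimeLocal
import Cfsg.Agent.Small.OrderTools

/-!
# Sylow 3-subgroups of a simple group of order 2520 without a subgroup of index seven

There is a subgroup `D` of order 3 with `|N(D)| = 72` and `|C(D)| = 36`.
-/

set_option autoImplicit false
set_option linter.style.haveILetI false

namespace CfsgLib.Classification.AltSevenOrder

open CfsgLib.Small CfsgLib.Classification.SmallOrders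

set_option synthInstance.maxSize 4000 in
theorem perm_four_commute : ∀ a b : Equiv.Perm (Fin 4),
    a ≠ 1 → a ^ 9 = 1 → b ^ 2 = 1 → b * a = a * b → b = 1 := by decide +kernel

/-- The action on four Sylow 3-subgroups of order nine sharing a subgroup `D` of order three. -/
theorem exists_sylow_action {T : Type*} [Group T] [Finite T] [Fact (Nat.Prime 3)]
    (hn : Nat.card (Sylow 3 T) = 4) (h9 : ∀ Q : Sylow 3 T, Nat.card (Q : Subgroup T) = 9)
    (D : Subgroup T) (hD : Nat.card D = 3) (hDle : ∀ Q : Sylow 3 T, D ≤ (Q : Subgroup T))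
    (P : Sylow 3 T) :
    ∃ φ : T →* Equiv.Perm (Fin 4), D ≤ φ.ker ∧
      (∀ t, φ t 0 = 0 ↔ t ∈ Subgroup.normalizer ((P : Subgroup T) : Set T)) ∧
      12 ∣ Nat.card φ.range ∧ ∀ q ∈ (P : Subgroup T), φ q = 1 → q ∈ D := by
  classical
  let e₀ : Sylow 3 T ≃ Fin 4 := Finite.equivFinOfCardEq hn
  let e : Sylow 3 T ≃ Fin 4 := e₀.trans (Equiv.swap (e₀ P) 0)
  have he : e P = 0 := by simp [e]
  let φ : T →* Equiv.Perm (Fin 4) :=
    (Equiv.permCongrHom e).toMonoidHom.comp (MulAction.toPermHom T (Sylow 3 T))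
  have hφ : ∀ t i, φ t i = e (t • e.symm i) := fun t i => rfl
  have hone : ∀ t, φ t = 1 → ∀ Q : Sylow 3 T, t • Q = Q := fun t h Q => by
    have := hφ t (e Q)
    rw [h, Equiv.symm_apply_apply, Equiv.Perm.one_apply] at this
    exact (e.injective this).symm
  have hker : D ≤ φ.ker := fun d hd => MonoidHom.mem_ker.2 (Equiv.ext fun i => by
    rw [hφ, Sylow.smul_eq_iff_mem_normalizer.2 (Subgroup.le_normalizer (hDle _ hd)),
      Equiv.apply_symm_apply]
    rfl)
  have hstab : ∀ t, φ t 0 = 0 ↔ t ∈ Subgroup.normalizer ((P : Subgroup T) : Set T) := fun t => by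
    rw [hφ, show e.symm 0 = P from (e.symm_apply_eq).2 he.symm, ← he, e.apply_eq_iff_eq]
    exact Sylow.smul_eq_iff_mem_normalizer
  have hmem : ∀ q ∈ (P : Subgroup T), φ q = 1 → q ∈ D := by
    intro q hq hq1
    obtain ⟨R, hR⟩ : ∃ R, R ≠ P := by
      haveI : Nontrivial (Sylow 3 T) := Finite.one_lt_card_iff_nontrivial.1 (by omega)
      exact exists_ne P
    have hqR : q ∈ (R : Subgroup T) := by
      have hqN : q ∈ Subgroup.normalizer ((R : Subgroup T) : Set T) :=
        Sylow.smul_eq_iff_mem_normalizer.1 (hone q hq1 R)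
      have hz : IsPGroup 3 (Subgroup.zpowers q) :=
        P.isPGroup'.to_le (Subgroup.zpowers_le.2 hq)
      have := (inf_eq_left.2 (Subgroup.zpowers_le.2 hqN)).symm.le.trans
        ((hz.inf_normalizer_sylow R).le.trans inf_le_right)
      exact this (Subgroup.mem_zpowers q)
    have hI : Nat.card ((P : Subgroup T) ⊓ R : Subgroup T) = 3 := by
      have h1 := Subgroup.card_dvd_of_le (inf_le_left : (P : Subgroup T) ⊓ R ≤ P)
      have h2 := Subgroup.card_dvd_of_le (le_inf (hDle P) (hDle R))
      rw [h9] at h1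
      rw [hD] at h2
      have h3 : Nat.card ((P : Subgroup T) ⊓ R : Subgroup T) ≠ 9 := fun h =>
        hR (Sylow.ext ((Subgroup.eq_of_le_of_card_ge inf_le_right (by rw [h, h9])).symm.trans
          (Subgroup.eq_of_le_of_card_ge inf_le_left (by rw [h, h9]))))
      have h4 := Nat.le_of_dvd (by norm_num) h1
      interval_cases h : Nat.card ((P : Subgroup T) ⊓ R : Subgroup T) <;> omega
    rw [Subgroup.eq_of_le_of_card_ge (le_inf (hDle P) (hDle R)) (by rw [hI, hD])]
    exact ⟨hq, hqR⟩
  refine ⟨φ, hker, hstab, ?_, hmem⟩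
  rw [← Subgroup.index_ker]
  refine Nat.Coprime.mul_dvd_of_dvd_of_dvd (by norm_num : Nat.Coprime 4 3) ?_ ?_
  · refine (dvd_of_eq (hn.symm.trans P.card_eq_index_normalizer)).trans ?_
    exact Subgroup.index_dvd_of_le fun t ht => (hstab t).1 (by rw [MonoidHom.mem_ker.1 ht]; rfl)
  · obtain ⟨q, hq, hqD⟩ : ∃ q ∈ (P : Subgroup T), q ∉ D := by
      refine SetLike.not_le_iff_exists.1 fun h => ?_
      have := Subgroup.card_dvd_of_le h
      rw [h9, hD] at this
      norm_num at this
    rw [Subgroup.index_ker]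
    have h1 : orderOf (φ q) ∣ 3 ^ 2 := (orderOf_map_dvd φ q).trans
      ((Subgroup.orderOf_dvd_natCard _ hq).trans (dvd_of_eq (h9 P)))
    obtain ⟨k, -, hk⟩ := (Nat.dvd_prime_pow (Fact.out : Nat.Prime 3)).1 h1
    have hk0 : k ≠ 0 := fun h0 => hqD (hmem q hq (orderOf_eq_one_iff.1 (by rw [hk, h0, pow_zero])))
    exact (dvd_pow_self 3 hk0).trans (hk ▸ Subgroup.orderOf_dvd_natCard φ.range ⟨q, rfl⟩)

variable {G : Type*} [Group G] [Finite G]

/-- An element of order `q` normalising `K`, `|K| ≢ 1 (mod q)`, centralises an element of order 3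
if `K` is a 3-group. -/
theorem exists_commute_three {q : ℕ} [Fact q.Prime] {K : Subgroup G} (hK : IsPGroup 3 K)
    (hKq : Nat.card K % q ≠ 1) {a : G} (ha : orderOf a = q)
    (haN : a ∈ Subgroup.normalizer (K : Set G)) :
    ∃ z : G, orderOf z = 3 ∧ Commute z a := by
  haveI : Fact (Nat.Prime 3) := ⟨Nat.prime_three⟩
  let A : MulAction (Subgroup.zpowers a) K :=
    { smul := fun g k => ⟨(g : G) * k * (g : G)⁻¹,
        (Subgroup.mem_normalizer_iff.1 ((Subgroup.zpowers_le.2 haN) g.2) k).1 k.2⟩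
      one_smul := fun k => Subtype.ext (by
        show (1 : G) * k * (1 : G)⁻¹ = k; group)
      mul_smul := fun g h k => Subtype.ext (by
        show ((g : G) * h) * k * ((g : G) * h)⁻¹ = g * (h * k * (h : G)⁻¹) * (g : G)⁻¹; group) }
  have hz : IsPGroup q (Subgroup.zpowers a) :=
    IsPGroup.of_card (n := 1) (by rw [Nat.card_zpowers, ha, pow_one])
  have hmod := hz.card_modEq_card_fixedPoints K
  obtain ⟨k, hk, hk1⟩ : ∃ k : K, k ∈ MulAction.fixedPoints (Subgroup.zpowers a) K ∧ k ≠ 1 := by
    by_contra hcon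
    push Not at hcon
    have h1 : Nat.card (MulAction.fixedPoints (Subgroup.zpowers a) K) = 1 := by
      refine Nat.card_eq_one_iff_unique.2 ⟨⟨fun u v => Subtype.ext ?_⟩, ⟨⟨1, fun g => Subtype.ext ?_⟩⟩⟩
      · rw [hcon u u.2, hcon v v.2]
      · show (g : G) * (1 : G) * (g : G)⁻¹ = 1
        group
    rw [h1, Nat.ModEq, Nat.one_mod_eq_one.2 (Fact.out : q.Prime).ne_one] at hmod
    exact hKq hmod
  have hfix := congrArg Subtype.val (hk ⟨a, Subgroup.mem_zpowers a⟩)
  have hcomm : Commute (k : G) a := by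
    show (k : G) * a = a * k
    have h' : a * (k : G) * a⁻¹ = k := hfix
    exact (mul_inv_eq_iff_eq_mul.1 h').symm
  obtain ⟨n, hn⟩ := hK.exists_card_eq
  obtain ⟨j, -, hj⟩ := (Nat.dvd_prime_pow Nat.prime_three).1
    (hn ▸ Subgroup.orderOf_dvd_natCard K k.2)
  have hj0 : j ≠ 0 := fun h0 => hk1 (Subtype.ext (orderOf_eq_one_iff.1 (by rw [hj, h0, pow_zero])))
  refine ⟨(k : G) ^ 3 ^ (j - 1), ?_, hcomm.pow_left _⟩
  rw [orderOf_pow' _ (by positivity), hj, Nat.gcd_eq_right (pow_dvd_pow 3 (Nat.sub_le j 1)),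
    Nat.pow_div (Nat.sub_le j 1) (by norm_num), show j - (j - 1) = 1 by omega, pow_one]

/-- In an involution normalising `P` and `D`, the action on `P` is trivial or inversion, unless
`N(P) ≤ N(D)`. -/
theorem conj_eq_or_inv [Fact (Nat.Prime 3)] (P : Sylow 3 G) (hP : Nat.card (P : Subgroup G) = 9)
    (hNP : Nat.card (Subgroup.normalizer ((P : Subgroup G) : Set G)) = 36) {D : Subgroup G}
    (hD : Nat.card D = 3) (hDP : D ≤ (P : Subgroup G))
    (hlt : ¬ Subgroup.normalizer ((P : Subgroup G) : Set G) ≤ Subgroup.normalizer (D : Set G))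
    {i : G} (_hi : orderOf i = 2) (hiP : i ∈ Subgroup.normalizer ((P : Subgroup G) : Set G))
    (hiD : i ∈ Subgroup.normalizer (D : Set G)) :
    (∀ p ∈ (P : Subgroup G), i * p * i⁻¹ = p) ∨ ∀ p ∈ (P : Subgroup G), i * p * i⁻¹ = p⁻¹ := by
  classical
  haveI : IsMulCommutative (P : Subgroup G) :=
    IsPGroup.isMulCommutative_of_card_eq_prime_sq (p := 3) (by rw [hP]; norm_num)
  have hcomm : ∀ p ∈ (P : Subgroup G), ∀ q ∈ (P : Subgroup G), p * q = q * p := fun p hp q hq =>
    congrArg Subtype.val (mul_comm' (⟨p, hp⟩ : (P : Subgroup G)) ⟨q, hq⟩)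
  -- `N(P)/C(P)` is commutative
  set N := Subgroup.normalizer ((P : Subgroup G) : Set G)
  let f := (P : Subgroup G).normalizerMonoidHom
  have hf4 : Nat.card f.range ∣ 4 := by
    have h1 : (P : Subgroup G).subgroupOf N ≤ f.ker := by
      intro q hq
      rw [Subgroup.normalizerMonoidHom_ker]
      exact Subgroup.le_centralizer (P : Subgroup G) hq
    have h2 := Subgroup.card_dvd_of_le h1
    rw [Nat.card_congr (Subgroup.subgroupOfEquivOfLe Subgroup.le_normalizer).toEquiv, hP] at h2
    obtain ⟨j, hj⟩ := h2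
    have h3 := f.ker.card_mul_index
    rw [hj, hNP, Subgroup.index_ker] at h3
    exact ⟨j, by
      have : 9 * (Nat.card f.range * j) = 9 * 4 := by rw [show 9 * 4 = 36 from rfl, ← h3]; ring
      omega⟩
  have hab : ∀ u v : f.range, u * v = v * u := by
    obtain ⟨k, hk, hk'⟩ := (Nat.dvd_prime_pow Nat.prime_two).1 (show Nat.card f.range ∣ 2 ^ 2 from hf4)
    intro u v
    rcases (by omega : k = 0 ∨ k = 1 ∨ k = 2) with rfl | rfl | rfl
    · haveI := (Nat.card_eq_one_iff_unique.1 hk').1
      rw [Subsingleton.elim u v]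
    · haveI : Fact (Nat.Prime 2) := ⟨Nat.prime_two⟩
      haveI : IsCyclic f.range :=
        isCyclic_of_prime_card (α := f.range) (p := 2) (by simpa using hk')
      exact (IsCyclic.isMulCommutative (α := f.range)).is_comm.comm u v
    · haveI : Fact (Nat.Prime 2) := ⟨Nat.prime_two⟩
      exact (IsPGroup.isMulCommutative_of_card_eq_prime_sq (G := f.range) (p := 2) hk').is_comm.comm u v
  have hswap : ∀ n ∈ N, ∀ p ∈ (P : Subgroup G),
      i * (n * p * n⁻¹) * i⁻¹ = n * (i * p * i⁻¹) * n⁻¹ := by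
    intro n hn p hp
    have h := congrArg Subtype.val (hab (⟨f ⟨i, hiP⟩, ⟨i, hiP⟩, rfl⟩ : f.range) (⟨f ⟨n, hn⟩, ⟨n, hn⟩, rfl⟩ : f.range))
    exact congrArg Subtype.val (DFunLike.congr_fun h ⟨p, hp⟩)
  by_contra hcon
  push Not at hcon
  obtain ⟨⟨p₁, hp₁, hp₁'⟩, ⟨p₂, hp₂, hp₂'⟩⟩ := hcon
  -- the eigenspace containing `D` is `D`
  obtain ⟨x, hx⟩ := exists_prime_orderOf_dvd_card' (G := D) 3 (by rw [hD])
  obtain ⟨x, hxD⟩ := x
  rw [← Subgroup.orderOf_coe] at hx
  change orderOf x = 3 at hx
  have hzx : Subgroup.zpowers x = D := Subgroup.eq_of_le_of_card_ge (Subgroup.zpowers_le.2 hxD)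
    (by rw [Nat.card_zpowers, hx, hD])
  have hix : i * x * i⁻¹ = x ∨ i * x * i⁻¹ = x⁻¹ := by
    have h : i * x * i⁻¹ ∈ D := (Subgroup.mem_normalizer_iff.1 hiD x).1 hxD
    rw [← hzx, Subgroup.mem_zpowers_iff] at h
    obtain ⟨j, hj⟩ := h
    rw [← zpow_mod_orderOf, hx] at hj
    have h0 : 0 ≤ j % 3 := Int.emod_nonneg _ (by norm_num)
    have h1 : j % 3 < 3 := Int.emod_lt_of_pos _ (by norm_num)
    push_cast at hj
    interval_cases h : j % 3
    · exfalso
      rw [zpow_zero] at hj
      have : x = 1 := by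
        have h' := hj.symm
        rwa [mul_inv_eq_one, mul_eq_left] at h'
      rw [this, orderOf_one] at hx
      omega
    · exact Or.inl (by rw [← hj, zpow_one])
    · refine Or.inr ?_
      rw [← hj]
      have h3 : x ^ 3 = 1 := hx ▸ pow_orderOf_eq_one x
      rw [show (2 : ℤ) = ((2 : ℕ) : ℤ) from rfl, zpow_natCast]
      exact eq_inv_of_mul_eq_one_left (by rw [← pow_succ, h3])
  -- `F`: elements of `P` transformed like `x`
  obtain ⟨ε, hε, hεx⟩ : ∃ ε : G → G, (∀ n p : G, ε (n * p * n⁻¹) = n * ε p * n⁻¹) ∧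
      i * x * i⁻¹ = ε x ∧ ∃ F : Subgroup G, (∀ p, p ∈ F ↔ p ∈ (P : Subgroup G) ∧ i * p * i⁻¹ = ε p) ∧
        F ≠ (P : Subgroup G) := by
    rcases hix with h | h
    · refine ⟨id, fun _ _ => rfl, h, (P : Subgroup G) ⊓ Subgroup.centralizer {i}, fun p => ?_, ?_⟩
      · rw [Subgroup.mem_inf, Subgroup.mem_centralizer_singleton_iff, id, mul_inv_eq_iff_eq_mul]
        exact and_congr_right fun _ => eq_comm
      · intro e
        exact hp₁' (by
          have := Subgroup.mem_centralizer_singleton_iff.1 (e.ge hp₁).2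
          rw [mul_inv_eq_iff_eq_mul]; exact this.symm)
    · refine ⟨fun p => p⁻¹, fun n p => by group, h,
        { carrier := {p | p ∈ (P : Subgroup G) ∧ i * p * i⁻¹ = p⁻¹}
          one_mem' := ⟨one_mem _, by group⟩
          mul_mem' := fun {a b} ha hb => ⟨mul_mem ha.1 hb.1, by
            calc i * (a * b) * i⁻¹ = (i * a * i⁻¹) * (i * b * i⁻¹) := by group
              _ = a⁻¹ * b⁻¹ := by rw [ha.2, hb.2]
              _ = (a * b)⁻¹ := by rw [← mul_inv_rev, hcomm b hb.1 a ha.1]⟩
          inv_mem' := fun {a} ha => ⟨inv_mem ha.1, by rw [← conj_inv, ha.2]⟩ },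
        fun p => Iff.rfl, ?_⟩
      intro e
      exact hp₂' (e.ge hp₂).2
  obtain ⟨hεx, F, hF, hFP⟩ := hεx
  have hFD : F = D := by
    have hDF : D ≤ F := by
      rw [← hzx, Subgroup.zpowers_le]
      exact (hF x).2 ⟨hDP hxD, hεx⟩
    have hFle : F ≤ (P : Subgroup G) := fun p hp => ((hF p).1 hp).1
    have h1 := Subgroup.card_dvd_of_le hFle
    have h2 := Subgroup.card_dvd_of_le hDF
    rw [hP] at h1
    rw [hD] at h2
    have h3 : Nat.card F ≠ 9 := fun h => hFP (Subgroup.eq_of_le_of_card_ge hFle (by rw [h, hP]))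
    refine (Subgroup.eq_of_le_of_card_ge hDF ?_).symm
    have h4 := Nat.le_of_dvd (by norm_num) h1
    interval_cases h : Nat.card F <;> omega
  refine hlt fun n hn => ?_
  have hle : ∀ n ∈ N, D.map (MulAut.conj n).toMonoidHom = D := fun n hn =>
    Subgroup.eq_of_le_of_card_ge (fun q hq => by
      obtain ⟨p, hp, rfl⟩ := hq
      have hp' := (hF p).1 (hFD ▸ hp)
      refine hFD ▸ (hF _).2 ⟨(Subgroup.mem_normalizer_iff.1 hn p).1 hp'.1, ?_⟩
      show i * (n * p * n⁻¹) * i⁻¹ = ε (n * p * n⁻¹)
      rw [hswap n hn p hp'.1, hp'.2, hε])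
      (Subgroup.card_map_of_injective (MulAut.conj n).injective).ge
  rw [Subgroup.mem_normalizer_iff]
  intro p
  constructor
  · exact fun hp => (hle n hn).le ⟨p, hp, rfl⟩
  · intro hp
    obtain ⟨q, hq, hqe⟩ := (hle n hn).ge hp
    rwa [← (MulAut.conj n).injective (show MulAut.conj n q = MulAut.conj n p from hqe)]

variable [IsSimpleGroup G]

/-- The normaliser of a subgroup of order 3 or 9 is a `{2,3}`-group. -/
theorem not_dvd_normalizer (hG : ¬ IsMulCommutative G) (hN : Nat.card G = 2520) {K : Subgroup G}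
    (hK : Nat.card K = 3 ∨ Nat.card K = 9) :
    ¬ 5 ∣ Nat.card (Subgroup.normalizer (K : Set G)) ∧
      ¬ 7 ∣ Nat.card (Subgroup.normalizer (K : Set G)) := by
  haveI : Fact (Nat.Prime 5) := ⟨by norm_num⟩
  haveI : Fact (Nat.Prime 7) := ⟨by norm_num⟩
  haveI : Fact (Nat.Prime 3) := ⟨Nat.prime_three⟩
  have hp : IsPGroup 3 K := by
    rcases hK with h | h
    · exact IsPGroup.of_card (n := 1) (by rw [h, pow_one])
    · exact IsPGroup.of_card (n := 2) (by rw [h]; norm_num)
  constructor <;> intro h <;>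
    obtain ⟨⟨a, haN⟩, ha⟩ := exists_prime_orderOf_dvd_card' _ h <;>
    rw [← Subgroup.orderOf_coe] at ha <;>
    obtain ⟨z, hz, hza⟩ :=
      exists_commute_three hp (by rcases hK with h | h <;> rw [h] <;> norm_num) ha haN
  · exact false_of_three_five hG hN ha hz hza
  · exact false_of_seven hG hN ha (Or.inr hz) hza

/-- The three-local subgroup. -/
theorem exists_local (hG : ¬ IsMulCommutative G) (hN : Nat.card G = 2520)
    (hno : ∀ H : Subgroup G, H.index ≠ 7) :
    ∃ (D : Subgroup G) (P : Sylow 3 G), Nat.card D = 3 ∧ Nat.card (P : Subgroup G) = 9 ∧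
      D ≤ (P : Subgroup G) ∧ (P : Subgroup G) ≤ Subgroup.centralizer (D : Set G) ∧
      Nat.card (Subgroup.normalizer ((P : Subgroup G) : Set G)) = 36 ∧
      Nat.card (Subgroup.normalizer (D : Set G)) = 72 ∧
      Nat.card (Subgroup.centralizer (D : Set G)) = 36 ∧
      Nat.card (Sylow 3 (Subgroup.centralizer (D : Set G))) = 4 ∧
      Nat.card (Sylow 3 (Subgroup.normalizer (D : Set G))) = 4 := by
  classical
  haveI : Fact (Nat.Prime 3) := ⟨Nat.prime_three⟩
  have hN' : Nat.card G = 3 ^ 2 * 280 := hN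
  have h280 : ¬ 3 ∣ 280 := by norm_num
  have hP9 : ∀ Q : Sylow 3 G, Nat.card (Q : Subgroup G) = 9 := fun Q => card_sylow_eq hN' h280 Q
  have hp : 3 ∣ Nat.card G := by rw [hN]; norm_num
  have hmem := card_sylow_mem hG hN' two_ne_zero h280
  rw [show (Nat.divisors 280).filter (fun d => d % 3 = 1 ∧ d ≠ 1) = {4, 7, 10, 28, 40, 70, 280}
    by decide +kernel] at hmem
  simp only [Finset.mem_insert, Finset.mem_singleton] at hmem
  obtain ⟨P₀⟩ : Nonempty (Sylow 3 G) := inferInstance
  have hmul := card_sylow_mul_card_normalizer P₀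
  have h57 := not_dvd_normalizer hG hN (K := (P₀ : Subgroup G)) (Or.inr (hP9 P₀))
  rcases hmem with hn | hn | hn | hn | hn | hn | hn
  · have h := two_mul_card_dvd_factorial_sylow hG (p := 3) hp
    rw [hn, hN] at h
    norm_num [Nat.factorial] at h
  · exact absurd (P₀.card_eq_index_normalizer.symm.trans hn) (hno _)
  · rw [hn, hN] at hmul; omega
  · rw [hn, hN] at hmul; omega
  · rw [hn, hN] at hmul; omega
  rotate_left
  · rw [hn, hN] at hmul
    exfalso
    refine not_normalizer_le_centralizer hG hp P₀ ?_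
    haveI : IsMulCommutative (P₀ : Subgroup G) :=
      IsPGroup.isMulCommutative_of_card_eq_prime_sq (p := 3) (by rw [hP9]; norm_num)
    rw [← Subgroup.eq_of_le_of_card_ge
      (Subgroup.le_normalizer (H := (P₀ : Subgroup G))) (by rw [hP9]; omega)]
    exact Subgroup.le_centralizer (P₀ : Subgroup G)
  have hNP : ∀ Q : Sylow 3 G, Nat.card (Subgroup.normalizer ((Q : Subgroup G) : Set G)) = 36 := by
    intro Q
    have h := card_sylow_mul_card_normalizer Q
    rw [hn, hN] at h
    omega
  obtain ⟨D, P, R, c, d, hPR, hD, hDP, hPM, hRM, hMc, hMd, hcd, -, -, hn1, hnmod, hndvd⟩ :=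
    exists_inter_normalizer hG hN' h280 le_rfl (by rw [hn]; norm_num)
  set M := Subgroup.normalizer (D : Set G) with hMdef
  rw [show 2 - 1 = 1 from rfl, pow_one] at hD
  have h57M := not_dvd_normalizer hG hN (K := D) (Or.inl hD)
  have hc8 : c ∣ 8 := by
    rw [← hMdef, hMc] at h57M
    have h5 : Nat.Coprime c (5 * 7) := Nat.Coprime.mul_right
      ((Nat.Prime.coprime_iff_not_dvd (by norm_num)).2
        fun h => h57M.1 (h.mul_left _)).symm
      ((Nat.Prime.coprime_iff_not_dvd (by norm_num)).2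
        fun h => h57M.2 (h.mul_left _)).symm
    exact h5.dvd_of_dvd_mul_right (show c ∣ 8 * 35 from ⟨d, hcd.symm⟩)
  have hM4 : Nat.card (Sylow 3 M) = 4 := by
    have h := Nat.le_of_dvd (by norm_num) (hndvd.trans hc8)
    have h8 := hndvd.trans hc8
    interval_cases h : Nat.card (Sylow 3 M) <;> omega
  rw [hM4] at hndvd
  -- `D` lies in every Sylow 3-subgroup of `M`
  have hDsylow : ∀ Q : Sylow 3 G, (Q : Subgroup G) ≤ M → D ≤ (Q : Subgroup G) := fun Q hQ => by
    have hD3 : IsPGroup 3 D := IsPGroup.of_card (n := 1) (by rw [hD, pow_one])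
    exact le_sup_right.trans_eq (Q.3 (IsPGroup.to_sup_of_normal_right' Q.2 hD3 hQ) le_sup_left)
  set C := Subgroup.centralizer (D : Set G) with hCdef
  have hCM : C ≤ M := Subgroup.centralizer_le_normalizer _
  have hab : ∀ Q : Sylow 3 G, (Q : Subgroup G) ≤ M → (Q : Subgroup G) ≤ C := fun Q hQ g hg =>
    Subgroup.mem_centralizer_iff.2 fun a ha =>
      (Subgroup.mem_centralizer_singleton_iff.1
        (le_centralizer_of_card_sq (p := 3) (by rw [hP9]; norm_num) (hDsylow Q hQ ha) hg)).symm
  have hPC := hab P hPM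
  have hRC := hab R hRM
  obtain ⟨e, he⟩ : 9 ∣ Nat.card C := hP9 P ▸ Subgroup.card_dvd_of_le hPC
  have hec : e ∣ c := by
    have h := Subgroup.card_dvd_of_le hCM
    rw [he, hMc] at h
    exact (Nat.mul_dvd_mul_iff_left (by norm_num : 0 < 9)).1 h
  have he3 : ¬ 3 ∣ e := fun h => by
    have := h.trans (hec.trans hc8); norm_num at this
  have hC4 : Nat.card (Sylow 3 C) = 4 := by
    have h1 := card_sylow_mod (G := C) 3
    have h2 := card_sylow_dvd (p := 3) (k := 2) he he3
    have h3 : Nat.card (Sylow 3 C) ≠ 1 := fun h => by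
      haveI : Subsingleton (Sylow 3 C) := (Nat.card_eq_one_iff_unique.1 h).1
      exact hPR (Sylow.subtype_injective (hP := hPC) (hQ := hRC) (Subsingleton.elim _ _))
    have h8 := h2.trans (hec.trans hc8)
    have := Nat.le_of_dvd (by norm_num) h8
    interval_cases h : Nat.card (Sylow 3 C) <;> omega
  have h4e : 4 ∣ e := hC4 ▸ card_sylow_dvd (p := 3) (k := 2) he he3
  set N := Subgroup.normalizer ((P : Subgroup G) : Set G)
  have hCN := card_inf_normalizer_mul P hPC
  rw [hC4, he] at hCN
  replace hCN : 4 * Nat.card (C ⊓ N : Subgroup G) = 9 * e := hCN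
  -- a generator of `D`
  obtain ⟨⟨x, hxD⟩, hx⟩ := exists_prime_orderOf_dvd_card' (G := D) 3 (by rw [hD])
  rw [← Subgroup.orderOf_coe] at hx
  change orderOf x = 3 at hx
  have hzx : Subgroup.zpowers x = D := Subgroup.eq_of_le_of_card_ge (Subgroup.zpowers_le.2 hxD)
    (by rw [Nat.card_zpowers, hx, hD])
  have hCx : Subgroup.centralizer ({x} : Set G) = C :=
    centralizer_singleton_eq_of_prime hD hxD (fun h => by rw [h, orderOf_one] at hx; omega)
  have he48 : e = 4 ∨ e = 8 := by
    have := Nat.le_of_dvd (by norm_num) (hec.trans hc8)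
    omega
  rcases he48 with rfl | rfl
  · have hc48 : c = 4 ∨ c = 8 := by
      have := Nat.le_of_dvd (by norm_num) hc8
      have : 0 < c := Nat.pos_of_dvd_of_pos hc8 (by norm_num)
      omega
    rcases hc48 with rfl | rfl
    · -- `N(D) = C(D)` is impossible
      exfalso
      have hMC : C = M := Subgroup.eq_of_le_of_card_ge hCM (by rw [he, hMc]; norm_num)
      haveI : Fact (Nat.Prime 2) := ⟨Nat.prime_two⟩
      obtain ⟨⟨s, hsN⟩, hs⟩ := exists_prime_orderOf_dvd_card' (G := N) 2 (by rw [hNP P]; norm_num)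
      rw [← Subgroup.orderOf_coe] at hs
      change orderOf s = 2 at hs
      have hss : s * s = 1 := (orderOf_eq_two_iff_sq.1 hs).2
      have hsinv : s⁻¹ = s := inv_eq_of_mul_eq_one_left hss
      have hsC : s ∉ C := fun h => by
        have := Subgroup.orderOf_dvd_natCard (C ⊓ N) (show s ∈ C ⊓ N from ⟨h, hsN⟩)
        rw [hs] at this
        omega
      -- the orbit of `x` and its inverse fill `P`
      let O : N → (P : Subgroup G) := fun n => ⟨(n : G) * x * (n : G)⁻¹,
        (Subgroup.mem_normalizer_iff.1 n.2 x).1 (hDP hxD)⟩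
      have hO : ∀ n m : N, O n = O m → (m : G)⁻¹ * n ∈ C := fun n m h => by
        rw [← hCx, Subgroup.mem_centralizer_singleton_iff]
        have h' : (n : G) * x * (n : G)⁻¹ = (m : G) * x * (m : G)⁻¹ := congrArg Subtype.val h
        calc (m : G)⁻¹ * n * x = (m : G)⁻¹ * ((n : G) * x * (n : G)⁻¹) * n := by group
          _ = x * ((m : G)⁻¹ * n) := by rw [h']; group
      have hOinv : ∀ n m : N, O n ≠ (O m)⁻¹ := fun n m h => by
        have h' : (n : G) * x * (n : G)⁻¹ = ((m : G) * x * (m : G)⁻¹)⁻¹ := congrArg Subtype.val h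
        have hk : ((m : G)⁻¹ * n) * x * ((m : G)⁻¹ * n)⁻¹ = x⁻¹ := by
          calc ((m : G)⁻¹ * n) * x * ((m : G)⁻¹ * n)⁻¹
              = (m : G)⁻¹ * ((n : G) * x * (n : G)⁻¹) * m := by group
            _ = x⁻¹ := by rw [h']; group
        have hkM : (m : G)⁻¹ * n ∈ C := by
          rw [hMC, hMdef, Subgroup.mem_normalizer_iff]
          have hconj : D.map (MulAut.conj ((m : G)⁻¹ * n)).toMonoidHom = D := by
            refine Subgroup.eq_of_le_of_card_ge ?_
              (Subgroup.card_map_of_injective (MulAut.conj _).injective).ge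
            rw [← hzx, MonoidHom.map_zpowers, Subgroup.zpowers_le]
            show ((m : G)⁻¹ * n) * x * ((m : G)⁻¹ * n)⁻¹ ∈ _
            rw [hk]
            exact inv_mem (Subgroup.mem_zpowers x)
          intro p
          constructor
          · exact fun hp => hconj.le ⟨p, hp, rfl⟩
          · intro hp
            obtain ⟨q, hq, hqe⟩ := hconj.ge hp
            rwa [← (MulAut.conj _).injective
              (show MulAut.conj ((m : G)⁻¹ * n) q = MulAut.conj ((m : G)⁻¹ * n) p from hqe)]
        rw [← hCx, Subgroup.mem_centralizer_singleton_iff] at hkM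
        have hxx : x = x⁻¹ := by
          rw [← hk, hkM]
          group
        have : x ^ 2 = 1 := by rw [pow_two]; exact mul_eq_one_iff_eq_inv.2 hxx
        have := Nat.le_of_dvd two_pos (orderOf_dvd_of_pow_eq_one this)
        omega
      let S : Finset (P : Subgroup G) :=
        (Set.toFinite (Set.range O ∪ Set.range fun n => (O n)⁻¹)).toFinset
      have hS8 : 8 ≤ S.card := by
        have hcard : 4 ≤ (Set.range O).ncard := by
          have h9 : ∀ a, (O ⁻¹' {a}).ncard ≤ 9 := by
            intro a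
            rcases (O ⁻¹' {a}).eq_empty_or_nonempty with h | ⟨m, hm⟩
            · simp [h]
            · refine le_trans (Set.ncard_le_ncard_of_injOn
                (fun n : N => (m : G)⁻¹ * n) (t := ((C ⊓ N : Subgroup G) : Set G))
                (fun n hn => Subgroup.mem_inf.2 ⟨hO n m (by rw [show O n = a from hn, show O m = a from hm]),
                  mul_mem (inv_mem m.2) n.2⟩)
                (fun n _ n' _ h => Subtype.ext (mul_left_cancel h)) (Set.toFinite _)) ?_
              rw [← Nat.card_coe_set_eq]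
              exact le_of_eq (show Nat.card (C ⊓ N : Subgroup G) = 9 by omega)
          haveI : Fintype N := Fintype.ofFinite _
          have h36 := Finset.card_le_mul_card_image (s := (Finset.univ : Finset N)) (f := O) 9
            fun a _ => by
              refine le_trans (le_of_eq ?_) (h9 a)
              rw [← Set.ncard_coe_finset]
              congr 1
              ext n
              simp
          rw [Finset.card_univ, ← Nat.card_eq_fintype_card, hNP P] at h36
          have : Set.range O = ((Finset.univ.image O : Finset _) : Set _) := by simp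
          rw [this, Set.ncard_coe_finset]
          omega
        rw [← Set.ncard_eq_toFinset_card _ (Set.toFinite _), Set.ncard_union_eq ?_]
        · have : (Set.range fun n => (O n)⁻¹).ncard = (Set.range O).ncard := by
            rw [show (Set.range fun n => (O n)⁻¹) = (·⁻¹) '' Set.range O from Set.range_comp' _ O,
              Set.ncard_image_of_injective _ inv_injective]
          omega
        · rw [Set.disjoint_left]
          rintro _ ⟨n, rfl⟩ ⟨m, hm⟩
          exact hOinv n m hm.symm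
      -- an element fixed by `s`
      have hsN' : ∀ p ∈ (P : Subgroup G), s * p * s ∈ (P : Subgroup G) := fun p hp => by
        have := (Subgroup.mem_normalizer_iff.1 hsN p).1 hp
        rwa [hsinv] at this
      obtain ⟨p, hp, hp1⟩ : ∃ p ∈ (P : Subgroup G), p * (s * p * s) ≠ 1 := by
        refine ⟨x, hDP hxD, fun h => ?_⟩
        have hsx : s * x * s⁻¹ = x⁻¹ := by rw [hsinv]; exact eq_inv_of_mul_eq_one_right h
        have hsM : s ∈ M := by
          rw [hMdef, Subgroup.mem_normalizer_iff]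
          have hle : ∀ q ∈ D, s * q * s⁻¹ ∈ D := fun q hq => by
            rw [← hzx] at hq ⊢
            obtain ⟨j, rfl⟩ := hq
            exact ⟨-j, by rw [← conj_zpow, hsx, inv_zpow']⟩
          intro q
          refine ⟨hle q, fun hq => ?_⟩
          have := hle _ hq
          rw [hsinv] at this
          have he : s * (s * q * s⁻¹) * s = q := by
            rw [hsinv]
            calc s * (s * q * s) * s = (s * s) * q * (s * s) := by group
              _ = q := by rw [hss, one_mul, mul_one]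
          rw [hsinv] at he
          rwa [he] at this
        exact hsC (hMC.ge hsM)
      set v : (P : Subgroup G) := ⟨p * (s * p * s), mul_mem hp (hsN' p hp)⟩ with hv
      have hvs : s * (v : G) = v * s := by
        have hcm := Subgroup.mem_centralizer_singleton_iff.1
          (le_centralizer_of_card_sq (p := 3) (by rw [hP9]; norm_num) hp (hsN' p hp))
        show s * (p * (s * p * s)) = p * (s * p * s) * s
        calc s * (p * (s * p * s)) = (s * p * s) * p * s := by group
          _ = _ := by rw [hcm]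
      have hvS : v ∈ S := by
        by_contra hvS
        have hsub : S ⊆ (Set.toFinite {a : (P : Subgroup G) | a ≠ 1}).toFinset.erase v := by
          intro a ha
          rw [Finset.mem_erase, Set.Finite.mem_toFinset]
          refine ⟨fun h => hvS (h ▸ ha), fun h => ?_⟩
          rw [Set.Finite.mem_toFinset] at ha
          rcases ha with ⟨n, hn⟩ | ⟨n, hn⟩
          · have : (n : G) * x * (n : G)⁻¹ = 1 := congrArg Subtype.val (hn.trans h)
            rw [mul_inv_eq_one, mul_eq_left] at this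
            rw [this, orderOf_one] at hx; omega
          · have : ((n : G) * x * (n : G)⁻¹)⁻¹ = 1 := congrArg Subtype.val (hn.trans h)
            rw [inv_eq_one, mul_inv_eq_one, mul_eq_left] at this
            rw [this, orderOf_one] at hx; omega
        have h1 := Finset.card_le_card hsub
        rw [Finset.card_erase_of_mem (by
            rw [Set.Finite.mem_toFinset]; exact fun h => hp1 (congrArg Subtype.val h)),
          ← Set.ncard_eq_toFinset_card _ (Set.toFinite _),
          ← Set.ncard_eq_toFinset_card _ (Set.toFinite _),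
          show {a : (P : Subgroup G) | a ≠ 1} = ({1} : Set (P : Subgroup G))ᶜ from rfl,
          Set.ncard_compl, hP9, Set.ncard_singleton] at h1
        rw [show S.card = _ from (Set.ncard_eq_toFinset_card _ (Set.toFinite _)).symm] at hS8
        omega
      rw [Set.Finite.mem_toFinset] at hvS
      obtain ⟨n, hn⟩ : ∃ n : N, s * ((n : G) * x * (n : G)⁻¹) = (n : G) * x * (n : G)⁻¹ * s := by
        rcases hvS with ⟨n, hn⟩ | ⟨n, hn⟩
        · refine ⟨n, ?_⟩
          rw [show (n : G) * x * (n : G)⁻¹ = v from congrArg Subtype.val hn]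
          exact hvs
        · refine ⟨n, ?_⟩
          have hn' : ((n : G) * x * (n : G)⁻¹)⁻¹ = v := congrArg Subtype.val hn
          rw [← inv_inv ((n : G) * x * (n : G)⁻¹), hn']
          exact (Commute.inv_right hvs).eq
      have hk : (n : G)⁻¹ * s * n ∈ C ⊓ N := by
        refine Subgroup.mem_inf.2 ⟨?_, mul_mem (mul_mem (inv_mem n.2) hsN) n.2⟩
        rw [← hCx, Subgroup.mem_centralizer_singleton_iff]
        calc (n : G)⁻¹ * s * n * x = (n : G)⁻¹ * (s * ((n : G) * x * (n : G)⁻¹)) * n := by group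
          _ = x * ((n : G)⁻¹ * s * n) := by rw [hn]; group
      have h2 := Subgroup.orderOf_dvd_natCard _ hk
      rw [show (n : G)⁻¹ * s * n = MulAut.conj (n : G)⁻¹ s by simp, MulEquiv.orderOf_eq, hs] at h2
      omega
    · exact ⟨D, P, hD, hP9 P, hDP, hPC, hNP P, by rw [hMc]; try norm_num, by rw [he]; try norm_num, hC4, hM4⟩
  -- `|C(D)| = 72` is impossible
  exfalso
  haveI : Fact (Nat.Prime 2) := ⟨Nat.prime_two⟩
  have hI18 : Nat.card (C ⊓ N : Subgroup G) = 18 := by omega
  obtain ⟨⟨i, hiC, hiN⟩, hi⟩ :=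
    exists_prime_orderOf_dvd_card' (G := (C ⊓ N : Subgroup G)) 2 (by rw [hI18]; norm_num)
  rw [← Subgroup.orderOf_coe] at hi
  change orderOf i = 2 at hi
  have hii : i * i = 1 := (orderOf_eq_two_iff_sq.1 hi).2
  have hix : i * x = x * i := by
    have h : i ∈ Subgroup.centralizer ({x} : Set G) := hCx.ge hiC
    exact Subgroup.mem_centralizer_singleton_iff.1 h
  have hMN : ¬ N ≤ M := fun h => by
    have h1 : Nat.card C = Nat.card M := Nat.dvd_antisymm (Subgroup.card_dvd_of_le hCM) (by
      rw [he, hMc]; exact (Nat.mul_dvd_mul_left _ hc8))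
    have h2 := Subgroup.card_dvd_of_le (le_inf ((Subgroup.eq_of_le_of_card_ge hCM h1.ge) ▸ h)
      (le_refl N) : N ≤ C ⊓ N)
    rw [hI18, hNP P] at h2
    norm_num at h2
  have hcent : ∀ j ∈ C, j ∈ N → orderOf j = 2 → ∀ p ∈ (P : Subgroup G), j * p * j⁻¹ = p := by
    intro j hjC hjN hj
    refine (conj_eq_or_inv P (hP9 P) (hNP P) hD hDP hMN hj hjN (hCM hjC)).resolve_right fun h => ?_
    have hjx : j * x = x * j :=
      Subgroup.mem_centralizer_singleton_iff.1 (hCx.ge hjC)
    have := h x (hDP hxD)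
    rw [hjx, mul_inv_cancel_right] at this
    have h2 : x ^ 2 = 1 := by rw [pow_two]; exact mul_eq_one_iff_eq_inv.2 this
    have := Nat.le_of_dvd two_pos (orderOf_dvd_of_pow_eq_one h2)
    omega
  -- involutions of `C ∩ N(P)` lie in the kernel
  set P' : Sylow 3 C := P.subtype hPC
  have hC9 : ∀ Q : Sylow 3 C, Nat.card (Q : Subgroup C) = 9 := fun Q =>
    card_sylow_eq (p := 3) (k := 2) he he3 Q
  have hD' : Nat.card (D.subgroupOf C) = 3 := by
    rw [Nat.card_congr (Subgroup.subgroupOfEquivOfLe (hDP.trans hPC)).toEquiv, hD]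
  have hD'le : ∀ Q : Sylow 3 C, D.subgroupOf C ≤ (Q : Subgroup C) := by
    intro Q
    haveI : (D.subgroupOf C).Normal :=
      (Subgroup.normal_subgroupOf_iff_le_normalizer (hDP.trans hPC)).2 hCM
    exact (IsPGroup.of_card (n := 1) (by rw [hD', pow_one])).le_sylow_of_normal Q
  obtain ⟨φ, hker, -, h12, hmem'⟩ := exists_sylow_action hC4 hC9 _ hD' hD'le P'
  obtain ⟨y, hyP, hyD⟩ : ∃ y ∈ (P : Subgroup G), y ∉ D := by
    refine SetLike.not_le_iff_exists.1 fun h => ?_
    have := Subgroup.card_dvd_of_le h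
    rw [hP9, hD] at this
    norm_num at this
  have hy1 : φ ⟨y, hPC hyP⟩ ≠ 1 := fun h => hyD (hmem' ⟨y, hPC hyP⟩ hyP h)
  have hkill : ∀ (j : G) (hjC : j ∈ C), j ∈ N → orderOf j = 2 → φ ⟨j, hjC⟩ = 1 := by
    intro j hjC hjN hj
    refine perm_four_commute _ _ hy1 ?_ ?_ ?_
    · rw [← map_pow, show (⟨y, hPC hyP⟩ : C) ^ 9 = 1 from Subtype.ext
        (orderOf_dvd_iff_pow_eq_one.1 (hP9 P ▸ Subgroup.orderOf_dvd_natCard _ hyP)), map_one]
    · rw [← map_pow, show (⟨j, hjC⟩ : C) ^ 2 = 1 from Subtype.ext (hj ▸ pow_orderOf_eq_one j),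
        map_one]
    · rw [← map_mul, ← map_mul]
      congr 1
      exact Subtype.ext (mul_inv_eq_iff_eq_mul.1 (hcent j hjC hjN hj y hyP))
  have hk6 : Nat.card φ.ker ∣ 6 := by
    have h := φ.ker.card_mul_index
    obtain ⟨r, hr⟩ := h12
    rw [Subgroup.index_ker, hr, he] at h
    exact ⟨r, by
      have : 12 * (Nat.card φ.ker * r) = 12 * 6 := by rw [show 12 * 6 = 9 * 8 from rfl, ← h]; ring
      omega⟩
  set i' : C := ⟨i, hiC⟩
  have hi'k : i' ∈ φ.ker := MonoidHom.mem_ker.2 (hkill i hiC hiN hi)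
  have hkle : φ.ker ≤ Subgroup.centralizer ({i'} : Set C) := by
    have h : 6 ∣ Nat.card (φ.ker ⊓ Subgroup.centralizer ({i'} : Set C) : Subgroup C) := by
      refine Nat.Coprime.mul_dvd_of_dvd_of_dvd (by norm_num : Nat.Coprime 2 3) ?_ ?_
      · have := Subgroup.orderOf_dvd_natCard (φ.ker ⊓ Subgroup.centralizer ({i'} : Set C))
          (x := i') ⟨hi'k, Subgroup.mem_centralizer_singleton_iff.2 rfl⟩
        rwa [← Subgroup.orderOf_coe, hi] at this
      · rw [← hD']
        refine Subgroup.card_dvd_of_le (le_inf hker fun a ha => ?_)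
        rw [Subgroup.mem_centralizer_singleton_iff]
        exact Subtype.ext (Subgroup.mem_centralizer_iff.1 hiC a ha)
    exact (Subgroup.eq_of_le_of_card_ge inf_le_left (Nat.le_of_dvd Nat.card_pos (hk6.trans h))).symm
      |>.trans_le inf_le_right
  have huniq : ∀ j ∈ φ.ker, orderOf j = 2 → j = i' := by
    intro j hj hjo
    set D' := (D.subgroupOf C).subgroupOf φ.ker
    have hD'2 : D'.index = 2 := by
      have h := D'.card_mul_index
      rw [Nat.card_congr (Subgroup.subgroupOfEquivOfLe hker).toEquiv, hD'] at h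
      have h6 := Nat.le_of_dvd (by norm_num) hk6
      have hik := Subgroup.orderOf_dvd_natCard φ.ker hi'k
      rw [← Subgroup.orderOf_coe, hi] at hik
      have hpos : 0 < Nat.card φ.ker := Nat.card_pos
      omega
    have hnot : ∀ z : C, orderOf z = 2 → z ∉ D.subgroupOf C := fun z hz hzD => by
      have := Subgroup.orderOf_dvd_natCard _ hzD
      rw [hz, hD'] at this
      omega
    have hmul : (⟨j, hj⟩ * ⟨i', hi'k⟩ : φ.ker) ∈ D' := by
      rw [Subgroup.mul_mem_iff_of_index_two hD'2]
      exact iff_of_false (hnot j hjo) (hnot i' (by rw [← Subgroup.orderOf_coe]; exact hi))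
    have h3 : (j * i') ^ 3 = 1 := orderOf_dvd_iff_pow_eq_one.1
      (hD' ▸ Subgroup.orderOf_dvd_natCard _ (show j * i' ∈ D.subgroupOf C from hmul))
    have hcomm : Commute j i' := Subgroup.mem_centralizer_singleton_iff.1 (hkle hj)
    have h2 : (j * i') ^ 2 = 1 := by
      rw [hcomm.mul_pow, show j ^ 2 = 1 from hjo ▸ pow_orderOf_eq_one j,
        show i' ^ 2 = 1 from Subtype.ext (hi ▸ pow_orderOf_eq_one i), one_mul]
    have h1 : j * i' = 1 := by simpa [pow_succ, h2] using h3
    rw [mul_eq_one_iff_eq_inv.1 h1]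
    exact inv_eq_of_mul_eq_one_left (Subtype.ext hii)
  have hCi : C ≤ Subgroup.centralizer ({i} : Set G) := by
    intro t ht
    set t' : C := ⟨t, ht⟩
    have h := huniq (t' * i' * t'⁻¹) ((MonoidHom.normal_ker φ).conj_mem _ hi'k t') (by
      rw [show t' * i' * t'⁻¹ = MulAut.conj t' i' from rfl, MulEquiv.orderOf_eq,
        ← Subgroup.orderOf_coe, hi])
    rw [Subgroup.mem_centralizer_singleton_iff]
    exact mul_inv_eq_iff_eq_mul.1 (congrArg Subtype.val h)
  set Z := Subgroup.centralizer ({i} : Set G) with hZdef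
  have hZtop : Z ≠ ⊤ := centralizer_singleton_ne_top hG (ne_one_of_orderOf_two hi)
  have hidx : Z.index ∣ 35 := by
    have h := Subgroup.index_dvd_of_le hCi
    have h' := C.card_mul_index
    rw [he, hN] at h'
    rwa [show C.index = 35 by omega] at h
  have hZ35 : Z.index = 35 := by
    have h5 := lt_index_of_not_dvd hG hZtop (b := 5) (by rw [hN]; decide +kernel)
    have := Nat.le_of_dvd (by norm_num) hidx
    interval_cases h : Z.index <;> first | omega | exact absurd h (hno Z)
  have hCZ : C = Z := Subgroup.eq_of_le_of_card_ge hCi (by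
    have h := Z.card_mul_index
    rw [hZ35, hN] at h
    rw [he]; omega)
  -- `N(P)` fixes the only involution of `C(P)`
  refine absurd (Subgroup.card_dvd_of_le (le_inf (fun n hn => ?_) (le_refl N) : N ≤ C ⊓ N)) (by
    rw [hI18, hNP P]; norm_num)
  rw [hCZ, hZdef, Subgroup.mem_centralizer_singleton_iff]
  set j := n * i * n⁻¹
  have hjo : orderOf j = 2 := by
    rw [show j = MulAut.conj n i from rfl, MulEquiv.orderOf_eq, hi]
  have hjN : j ∈ N := mul_mem (mul_mem hn hiN) (inv_mem hn)
  have hjC : j ∈ C := by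
    rw [← hCx, Subgroup.mem_centralizer_singleton_iff]
    have hxn : n⁻¹ * x * n ∈ (P : Subgroup G) := by
      have := (Subgroup.mem_normalizer_iff.1 (inv_mem hn) x).1 (hDP hxD)
      rwa [inv_inv] at this
    have h := mul_inv_eq_iff_eq_mul.1 (hcent i hiC hiN hi _ hxn)
    calc j * x = n * (i * (n⁻¹ * x * n)) * n⁻¹ := by simp only [j]; group
      _ = x * j := by rw [h]; simp only [j]; group
  have := congrArg Subtype.val (huniq ⟨j, hjC⟩ (MonoidHom.mem_ker.2 (hkill j hjC hjN hjo))
    (by rw [← Subgroup.orderOf_coe]; exact hjo))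
  exact mul_inv_eq_iff_eq_mul.1 this

end CfsgLib.Classification.AltSevenOrder
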